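import Cfsg.Agent.Lib.AppendixC.NormOne

/-!
Bender-Glauberman Appendix C: there is an element `a ≠ 1` with `a` and `2 - a` of norm one.
-/

namespace Cfsg.Agent.Lib.AppendixC.Existence

open Finset NormOne Polynomial

variable {p q : ℕ} {F : Type*} [Field F] [Fintype F] [Fact p.Prime] [_root_.Algebra (ZMod p) F]

local notation "ι" => algebraMap (ZMod p) F

theorem cubic_noroot (hp5 : 5 ≤ p) :
    ∃ c : ZMod p, ∀ x : ZMod p, x * (x - 2) * (x - c) + (x - 1) ≠ 0 := by
  classical
  obtain ⟨c, hc⟩ : ∃ c : ZMod p,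
      c ∉ ((univ.erase 0).image fun x : ZMod p => x + (x - 1) / (x * (x - 2))) := by
    apply not_forall.1
    intro hall
    have h1 : (univ : Finset (ZMod p)) ⊆ (univ.erase 0).image fun x => x + (x - 1) / (x * (x - 2)) :=
      fun c _ => hall c
    have h2 := (card_le_card h1).trans card_image_le
    rw [card_erase_of_mem (mem_univ _), card_univ, ZMod.card] at h2
    omega
  refine ⟨c, fun x hx => ?_⟩
  have h2 : (2 : ZMod p) ≠ 0 := by
    have : ((2 : ℕ) : ZMod p) ≠ 0 := by
      rw [Ne, ZMod.natCast_eq_zero_iff]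
      intro h; have := Nat.le_of_dvd (by norm_num) h; omega
    exact_mod_cast this
  by_cases h0 : x = 0
  · subst h0; simp at hx
  by_cases hx2 : x = 2
  · subst hx2; exact one_ne_zero (show (1 : ZMod p) = 0 by linear_combination hx)
  apply hc
  rw [mem_image]
  refine ⟨x, by simp [h0], ?_⟩
  have hd : x * (x - 2) ≠ 0 := mul_ne_zero h0 (sub_ne_zero.2 hx2)
  rw [← eq_sub_iff_add_eq', div_eq_iff hd]
  linear_combination hx

theorem exists_three (h : Hyp p q F) (hq : q = 3) :
    ∃ a : F, a ^ nrm p q = 1 ∧ (2 - a) ^ nrm p q = 1 ∧ a ≠ 1 := by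
  subst hq
  haveI : CharP F p := charP_of_injective_algebraMap (algebraMap (ZMod p) F).injective p
  obtain ⟨c, hc⟩ := cubic_noroot h.five
  set f : (ZMod p)[X] := X ^ 3 - C (2 + c) * X ^ 2 + C (2 * c + 1) * X - 1 with hf
  have hev : ∀ x : ZMod p, f.eval x = x * (x - 2) * (x - c) + (x - 1) := fun x => by
    simp only [hf, eval_sub, eval_add, eval_mul, eval_pow, eval_C, eval_X, eval_one]; ring
  have hdeg : f.natDegree = 3 := by rw [hf]; compute_degree!
  have hirr : Irreducible f := irreducible_of_degree_le_three_of_not_isRoot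
    (by rw [hdeg]; decide) (fun x hx => hc x (by rw [← hev]; exact hx))
  haveI : Fact (Irreducible f) := ⟨hirr⟩
  let pb := AdjoinRoot.powerBasis hirr.ne_zero
  haveI : Finite (AdjoinRoot f) :=
    haveI := pb.finite
    Module.finite_of_finite (ZMod p)
  haveI := Fintype.ofFinite (AdjoinRoot f)
  have hcard : Fintype.card (AdjoinRoot f) = Fintype.card F := by
    rw [Module.card_fintype pb.basis, ZMod.card, Fintype.card_fin, h.card,
      AdjoinRoot.powerBasis_dim, hdeg]
  let φ := FiniteField.algEquivOfCardEq p hcard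
  set a := φ (AdjoinRoot.root f) with ha
  have haroot : aeval a f = 0 := by
    rw [ha, ← AlgEquiv.coe_toAlgHom, Polynomial.aeval_algHom_apply, AdjoinRoot.aeval_eq,
      AdjoinRoot.mk_self, map_zero]
  have hroot : a ^ 3 - ι (2 + c) * a ^ 2 + ι (2 * c + 1) * a - 1 = 0 := by
    simpa [hf, map_ofNat] using haroot
  have hnot : ∀ r : ZMod p, a ≠ ι r := by
    intro r hr
    apply hc r
    apply (algebraMap (ZMod p) F).injective
    rw [hr] at hroot
    simp only [map_zero, map_add, map_sub, map_mul, map_one, map_ofNat] at hroot ⊢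
    linear_combination hroot
  have frobroot : ∀ x : F, x ^ 3 - ι (2 + c) * x ^ 2 + ι (2 * c + 1) * x - 1 = 0 →
      (x ^ p) ^ 3 - ι (2 + c) * (x ^ p) ^ 2 + ι (2 * c + 1) * x ^ p - 1 = 0 := by
    intro x hx
    have e := congrArg (frobenius F p) hx
    simp only [map_sub, map_add, map_mul, map_pow, map_one, map_zero] at e
    simp only [frobenius_def, ← map_add (algebraMap (ZMod p) F), ← map_mul (algebraMap (ZMod p) F),
      ← map_pow (algebraMap (ZMod p) F), ← map_ofNat (algebraMap (ZMod p) F),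
      ← map_one (algebraMap (ZMod p) F), ZMod.pow_card] at e
    simpa [map_add, map_mul, map_ofNat] using e
  set b := a ^ p with hb
  set d := b ^ p with hd
  have hb0 := frobroot a hroot
  have hd0 := frobroot b hb0
  have cube : (d ^ p : F) = a := by
    rw [hd, hb, ← pow_mul, ← pow_mul, show p * (p * p) = p ^ 3 by ring, h.pow_card]
  have hab : a ≠ b := fun e => by
    obtain ⟨r, hr⟩ := Hyp.fixed (p := p) a e.symm
    exact hnot r hr.symm
  have had : a ≠ d := fun e => by
    apply hab
    calc a = d ^ p := cube.symm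
      _ = b := by rw [hb, ← e]
  have hbd : b ≠ d := fun e => by
    apply had
    calc a = d ^ p := cube.symm
      _ = b ^ p := by rw [← e]
      _ = d := hd.symm
  set s := ι (2 + c)
  set t := ι (2 * c + 1)
  have q1 : a ^ 2 + a * b + b ^ 2 - s * (a + b) + t = 0 :=
    mul_left_cancel₀ (sub_ne_zero.2 hab) (by linear_combination hroot - hb0)
  have q2 : a ^ 2 + a * d + d ^ 2 - s * (a + d) + t = 0 :=
    mul_left_cancel₀ (sub_ne_zero.2 had) (by linear_combination hroot - hd0)
  have q3 : a + b + d - s = 0 :=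
    mul_left_cancel₀ (sub_ne_zero.2 hbd) (by linear_combination q1 - q2)
  have e2 : a * b + b * d + a * d = t := by linear_combination (a + b) * q3 - q1
  have e3 : a * b * d = 1 := by linear_combination -(a ^ 2) * q3 + hroot + a * e2
  have hn : ∀ x : F, x ^ nrm p 3 = x * x ^ p * (x ^ p) ^ p := fun x => by
    rw [nrm, ← prod_pow_eq_pow_sum]
    simp [prod_range_succ, ← pow_mul, pow_two]
  have h2p : (2 : F) ^ p = 2 := by
    rw [← map_ofNat (algebraMap (ZMod p) F), ← map_pow, ZMod.pow_card]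
  refine ⟨a, ?_, ?_, fun e => hnot 1 (by rw [e, map_one])⟩
  · rw [hn, ← hb, ← hd, e3]
  · rw [hn, sub_pow_char (p := p), h2p, ← hb, sub_pow_char (p := p), h2p, ← hd]
    simp only [s, t, map_add, map_mul, map_ofNat, map_one] at q3 e2
    linear_combination (-4 : F) * q3 + 2 * e2 - e3

section Gauss

open Complex

theorem exists_five (h : Hyp p q F) (hq : 5 ≤ q) :
    ∃ a : F, a ^ nrm p q = 1 ∧ (2 - a) ^ nrm p q = 1 ∧ a ≠ 1 := by
  classical
  haveI : CharP F p := charP_of_injective_algebraMap (algebraMap (ZMod p) F).injective p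
  by_contra hE
  push Not at hE
  have hp5 := h.five
  set ψ := AddChar.FiniteField.primitiveChar_to_Complex F with hψdef
  have hψ : ψ.IsPrimitive := AddChar.FiniteField.primitiveChar_to_Complex_isPrimitive F
  set S := h.normOne
  set g : F → ℂ := fun b => ∑ u ∈ S, ψ (b * u) with hg
  set M : ℝ := (nrm p q : ℝ) with hM
  set Q : ℝ := (Fintype.card F : ℝ) with hQ
  have hsum : ∀ x : F, ∑ b, ψ (b * x) = if x = 0 then (Fintype.card F : ℂ) else 0 := fun x => by
    rw [AddChar.sum_mulShift x hψ]; split_ifs <;> simp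
  have hginv : ∀ b u : F, u ∈ S → g (b * u) = g b := by
    intro b u hu
    refine Finset.sum_bij (fun v _ => u * v) ?_ ?_ ?_ ?_
    · intro v hv
      rw [h.mem_normOne] at hu hv ⊢
      rw [mul_pow, hu, hv, one_mul]
    · intro v _ w _ e; exact mul_left_cancel₀ (h.ne_zero_of_mem hu) e
    · intro v hv
      refine ⟨u⁻¹ * v, ?_, mul_inv_cancel_left₀ (h.ne_zero_of_mem hu) v⟩
      rw [h.mem_normOne] at hu hv ⊢
      rw [mul_pow, inv_pow, hu, hv, inv_one, one_mul]
    · intro v _; rw [mul_assoc]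
  have hg0 : g 0 = (nrm p q : ℂ) := by simp [hg, S, h.card_normOne]
  have pars : ∑ b, g b * (starRingEnd ℂ) (g b) = ((Fintype.card F * nrm p q : ℕ) : ℂ) := by
    calc ∑ b, g b * (starRingEnd ℂ) (g b) = ∑ b, ∑ u ∈ S, ∑ v ∈ S, ψ (b * (u - v)) := by
          refine sum_congr rfl fun b _ => ?_
          simp only [hg, map_sum, sum_mul_sum]
          refine sum_congr rfl fun u _ => sum_congr rfl fun v _ => ?_
          rw [← AddChar.map_neg_eq_conj, ← AddChar.map_add_eq_mul, mul_sub, sub_eq_add_neg]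
      _ = ∑ u ∈ S, ∑ v ∈ S, ∑ b, ψ (b * (u - v)) := by
          rw [sum_comm]; exact sum_congr rfl fun u _ => sum_comm
      _ = ∑ u ∈ S, (Fintype.card F : ℂ) := by
          refine sum_congr rfl fun u hu => ?_
          simp only [hsum, sub_eq_zero, sum_ite_eq, hu, if_true]
      _ = _ := by rw [sum_const, nsmul_eq_mul, h.card_normOne]; push_cast; ring
  have parsR : ∑ b, ‖g b‖ ^ 2 = Q * M := by
    have e : ((∑ b, ‖g b‖ ^ 2 : ℝ) : ℂ) = ((Q * M : ℝ) : ℂ) := by
      push_cast
      simp only [← Complex.mul_conj', hQ, hM, Complex.ofReal_natCast]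
      rw [pars]; push_cast; ring
    exact_mod_cast e
  set R := univ.erase (0 : ZMod p)
  set T := ∑ r ∈ R, ‖g (ι r)‖ ^ 2 with hT
  have hMpos : 0 < M := by rw [hM]; exact_mod_cast h.nrm_pos
  have hTQ : T ≤ Q := by
    have e := h.sum_nonzero (fun b => ‖g b‖ ^ 2)
    have e2 : ∀ r ∈ R, ∑ u ∈ S, ‖g (ι r * u)‖ ^ 2 = M * ‖g (ι r)‖ ^ 2 := fun r _ => by
      rw [sum_congr rfl (fun u hu => by rw [hginv _ u hu]), sum_const, nsmul_eq_mul, h.card_normOne]
    rw [sum_congr rfl e2, ← mul_sum] at e
    have := (sum_le_sum_of_subset_of_nonneg (erase_subset (0 : F) univ)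
      (f := fun b => ‖g b‖ ^ 2) (fun b _ _ => sq_nonneg _))
    rw [e, parsR] at this
    exact le_of_mul_le_mul_left (by linarith) hMpos
  have h2 : (2 : F) ≠ 0 := by
    intro e
    have : ((2 : ℕ) : F) = 0 := by exact_mod_cast e
    rw [CharP.cast_eq_zero_iff F p] at this
    have := Nat.le_of_dvd (by norm_num) this
    omega
  have count : ∑ b, g b * g b * ψ (b * -2) = (Fintype.card F : ℂ) := by
    calc ∑ b, g b * g b * ψ (b * -2) = ∑ b, ∑ u ∈ S, ∑ v ∈ S, ψ (b * (u + v + -2)) := by
          refine sum_congr rfl fun b _ => ?_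
          simp only [hg]
          rw [sum_mul_sum, sum_mul]
          refine sum_congr rfl fun u _ => ?_
          rw [sum_mul]
          refine sum_congr rfl fun v _ => ?_
          rw [← AddChar.map_add_eq_mul, ← AddChar.map_add_eq_mul]
          congr 1; ring
      _ = ∑ u ∈ S, ∑ v ∈ S, ∑ b, ψ (b * (u + v + -2)) := by
          rw [sum_comm]; exact sum_congr rfl fun u _ => sum_comm
      _ = ∑ u ∈ S, if u = 1 then (Fintype.card F : ℂ) else 0 := by
          refine sum_congr rfl fun u hu => ?_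
          simp only [hsum]
          by_cases hu1 : u = 1
          · subst hu1
            rw [if_pos rfl, sum_eq_single (1 : F)]
            · rw [if_pos (by norm_num)]
            · intro v _ hv
              rw [if_neg]
              intro e; exact hv (by linear_combination e)
            · intro h1; exact absurd hu h1
          · rw [if_neg hu1]
            refine sum_eq_zero fun v hv => ?_
            rw [if_neg]
            intro e
            refine hu1 (hE u ((h.mem_normOne).1 hu) ?_)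
            rw [show (2 : F) - u = v by linear_combination -e]
            exact (h.mem_normOne).1 hv
      _ = _ := by
          rw [sum_ite_eq', if_pos]
          rw [h.mem_normOne, one_pow]
  rw [← sum_erase_add _ _ (mem_univ (0 : F)), h.sum_nonzero, zero_mul, AddChar.map_zero_eq_one,
    mul_one, hg0] at count
  have inner : ∀ r ∈ R, ∑ u ∈ S, g (ι r * u) * g (ι r * u) * ψ (ι r * u * -2) =
      g (ι r) * g (ι r) * g (ι (-2 * r)) := by
    intro r _
    rw [sum_congr rfl (fun u hu => by rw [hginv _ u hu]), ← mul_sum]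
    congr 1
    refine sum_congr rfl fun u _ => ?_
    congr 1
    rw [map_mul, map_neg, map_ofNat]; ring
  rw [sum_congr rfl inner] at count
  have err : ‖∑ r ∈ R, g (ι r) * g (ι r) * g (ι (-2 * r))‖ ≤ Q * Real.sqrt Q := by
    refine (norm_sum_le _ _).trans ?_
    calc ∑ r ∈ R, ‖g (ι r) * g (ι r) * g (ι (-2 * r))‖
        ≤ ∑ r ∈ R, ‖g (ι r)‖ ^ 2 * Real.sqrt Q := by
          refine sum_le_sum fun r hr => ?_
          rw [norm_mul, norm_mul, ← pow_two]
          refine mul_le_mul_of_nonneg_left ?_ (sq_nonneg _)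
          refine Real.le_sqrt_of_sq_le (le_trans ?_ hTQ)
          rw [hT]
          refine single_le_sum (f := fun r => ‖g (ι r)‖ ^ 2) (fun i _ => sq_nonneg _) ?_
          simp only [R, mem_erase, mem_univ, and_true] at hr ⊢
          refine mul_ne_zero ?_ hr
          intro e
          apply h2
          have := congrArg (algebraMap (ZMod p) F) e
          simpa [map_ofNat] using this
      _ = T * Real.sqrt Q := by rw [hT, sum_mul]
      _ ≤ Q * Real.sqrt Q := mul_le_mul_of_nonneg_right hTQ (Real.sqrt_nonneg _)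
  rw [show ∑ r ∈ R, g (ι r) * g (ι r) * g (ι (-2 * r)) =
    (Fintype.card F : ℂ) - (nrm p q : ℂ) * (nrm p q : ℂ) by linear_combination count] at err
  have hQpos : 0 ≤ Q := by rw [hQ]; positivity
  have key : M * M ≤ Q + Q * Real.sqrt Q := by
    have h1 := norm_sub_norm_le ((nrm p q : ℂ) * (nrm p q : ℂ)) (Fintype.card F : ℂ)
    rw [norm_sub_rev, norm_mul, Complex.norm_natCast, Complex.norm_natCast, ← hM, ← hQ] at h1
    linarith [norm_sub_rev ((Fintype.card F : ℂ)) ((nrm p q : ℂ) * (nrm p q : ℂ))]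
  have hQ1 : 1 ≤ Q := by rw [hQ]; exact_mod_cast Fintype.card_pos
  have hs : 1 ≤ Real.sqrt Q := Real.one_le_sqrt.2 hQ1
  have key2 : (M * M) ^ 2 ≤ 4 * Q ^ 3 := by
    have : M * M ≤ 2 * (Q * Real.sqrt Q) := by nlinarith
    calc (M * M) ^ 2 ≤ (2 * (Q * Real.sqrt Q)) ^ 2 := pow_le_pow_left₀ (by positivity) this 2
      _ = 4 * (Q ^ 2 * Real.sqrt Q ^ 2) := by ring
      _ = 4 * Q ^ 3 := by rw [Real.sq_sqrt hQpos]; ring
  have key3 : (nrm p q * nrm p q) ^ 2 ≤ 4 * (p ^ q) ^ 3 := by
    rw [← h.card]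
    rw [hM, hQ] at key2
    exact_mod_cast key2
  have hlow : p ^ (q - 1) ≤ nrm p q :=
    single_le_sum (f := fun i => p ^ i) (fun i _ => Nat.zero_le _) (by simp; omega)
  have : (p ^ (q - 1) * p ^ (q - 1)) ^ 2 ≤ 4 * (p ^ q) ^ 3 :=
    (Nat.pow_le_pow_left (Nat.mul_le_mul hlow hlow) 2).trans key3
  rw [← pow_add, ← pow_mul, ← pow_mul] at this
  have h' : p ^ (q * 3 + 1) ≤ p ^ ((q - 1 + (q - 1)) * 2) :=
    Nat.pow_le_pow_right (by omega) (by omega)
  rw [pow_succ] at h'
  have hpos : 0 < p ^ (q * 3) := Nat.pow_pos (by omega)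
  nlinarith

end Gauss

theorem exists_pair (h : Hyp p q F) :
    ∃ a : F, a ^ nrm p q = 1 ∧ (2 - a) ^ nrm p q = 1 ∧ a ≠ 1 := by
  have h1 := Nat.odd_iff.1 h.q_odd
  have h2 := h.hq.two_le
  rcases (by omega : q = 3 ∨ 5 ≤ q) with h3 | h5
  · exact exists_three h h3
  · exact exists_five h h5

end Cfsg.Agent.Lib.AppendixC.Existence
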