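import Cfsg.Agent.Lib.AppendixC.Config
import Cfsg.Agent.Lib.AppendixC.Existence

/-!
Bender-Glauberman Appendix C: the group configuration yields a configuration of
`Lib.AppendixC.Config`, hence a contradiction.
-/

namespace Cfsg.Agent.Lib.AppendixC.Concrete

open NormOne
open _root_.Cfsg.Agent.Lib.AppendixC.Algebra (TriEq chi2)

/-- the hypotheses on the group -/
structure Setup (p q : ℕ) [Fact p.Prime] (F : Type*) [Field F] [Fintype F]
    [_root_.Algebra (ZMod p) F] (G : Type*) [Group G] where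
  hyp : Hyp p q F
  P : Subgroup G
  U : Subgroup G
  Q : Subgroup G
  π : F → G
  π_mem : ∀ x, π x ∈ P
  π_add : ∀ x x', π (x + x') = π x * π x'
  π_inj : Function.Injective π
  ψ : G → F
  ψ_ne : ∀ u ∈ U, ψ u ≠ 0
  ψ_mul : ∀ u ∈ U, ∀ u' ∈ U, ψ (u * u') = ψ u * ψ u'
  ψ_inj : Set.InjOn ψ (U : Set G)
  π_surj : ∀ g ∈ P, ∃ x, π x = g
  conjU : ∀ u ∈ U, ∀ x, u * π x * u⁻¹ = π (ψ u * x)
  cardU : Nat.card U = nrm p q
  finG : Finite G
  comm : ∀ a ∈ Q, ∀ b ∈ Q, a * b = b * a
  coprimeQ : (Nat.card Q).Coprime p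
  normQ : ∀ c : ZMod p, ∀ w ∈ Q, π (algebraMap _ F c) * w * (π (algebraMap _ F c))⁻¹ ∈ Q
  y : G
  y_mem : y ∈ Q
  normU : ∀ c : ZMod p, ∀ u ∈ U,
    y * π (algebraMap _ F c) * y⁻¹ * u * (y * π (algebraMap _ F c) * y⁻¹)⁻¹ ∈ U

variable {p q : ℕ} [Fact p.Prime] {F : Type*} [Field F] [Fintype F] [_root_.Algebra (ZMod p) F]
  {G : Type*} [Group G]

local notation "ι" => algebraMap (ZMod p) F

namespace Setup

variable (S : Setup p q F G)

/-- the prime subgroup of `P` -/
def s (c : ZMod p) : G := S.π (ι c)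

/-- its conjugate normalizing `U` -/
def t (c : ZMod p) : G := S.y * S.s c * S.y⁻¹

/-- the conjugates of `P` -/
def e (A : ZMod p) (x : F) : G := S.t A * S.π x * (S.t A)⁻¹

/-- the element of `U` with given `ψ` -/
noncomputable def lift (x : F) : G := Function.invFunOn S.ψ (S.U : Set G) x

/-- the automorphism of the norm-one group induced by `t A` -/
noncomputable def τ (A : ZMod p) (x : F) : F := S.ψ ((S.t A)⁻¹ * S.lift x * S.t A)

include S

theorem π_zero : S.π 0 = 1 := by
  have := S.π_add 0 0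
  rw [add_zero] at this
  exact left_eq_mul.1 this

theorem π_neg (x : F) : S.π (-x) = (S.π x)⁻¹ := by
  rw [eq_inv_iff_mul_eq_one, ← S.π_add, neg_add_cancel, S.π_zero]

theorem π_pow (x : F) (n : ℕ) : S.π x ^ n = S.π (n • x) := by
  induction n with
  | zero => simp [S.π_zero]
  | succ n ih => rw [pow_succ, ih, ← S.π_add, succ_nsmul]

theorem s_zero : S.s 0 = 1 := by rw [s, map_zero, S.π_zero]

theorem s_add (a b : ZMod p) : S.s (a + b) = S.s a * S.s b := by rw [s, map_add, S.π_add]; rfl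

theorem s_neg (a : ZMod p) : S.s (-a) = (S.s a)⁻¹ := by rw [s, map_neg, S.π_neg]; rfl

theorem s_pow_p (a : ZMod p) : S.s a ^ p = 1 := by
  rw [s, S.π_pow, ← map_nsmul, nsmul_eq_mul, ZMod.natCast_self, zero_mul, map_zero, S.π_zero]

theorem t_zero : S.t 0 = 1 := by rw [t, S.s_zero, mul_one, mul_inv_cancel]

theorem t_add (a b : ZMod p) : S.t (a + b) = S.t a * S.t b := by
  simp only [t, S.s_add]; group

theorem t_neg (a : ZMod p) : S.t (-a) = (S.t a)⁻¹ := by
  simp only [t, S.s_neg]; group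

theorem t_pow_p (a : ZMod p) : S.t a ^ p = 1 := by
  rw [t, conj_pow, S.s_pow_p, mul_one, mul_inv_cancel]

theorem t_normU (c : ZMod p) {u : G} (hu : u ∈ S.U) : S.t c * u * (S.t c)⁻¹ ∈ S.U := S.normU c u hu

theorem t_normU' (c : ZMod p) {u : G} (hu : u ∈ S.U) : (S.t c)⁻¹ * u * S.t c ∈ S.U := by
  have := S.t_normU (-c) hu
  rwa [S.t_neg, inv_inv] at this

theorem ψ_one : S.ψ 1 = 1 := by
  have h := S.ψ_mul 1 S.U.one_mem 1 S.U.one_mem
  rw [one_mul] at h
  exact (left_eq_mul₀ (S.ψ_ne 1 S.U.one_mem)).1 h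

theorem ψ_pow {u : G} (hu : u ∈ S.U) (n : ℕ) : S.ψ (u ^ n) = S.ψ u ^ n := by
  induction n with
  | zero => simp [S.ψ_one]
  | succ n ih => rw [pow_succ, pow_succ, S.ψ_mul _ (pow_mem hu n) _ hu, ih]

theorem ψ_nrm {u : G} (hu : u ∈ S.U) : S.ψ u ^ nrm p q = 1 := by
  have h : u ^ Nat.card S.U = 1 := congrArg Subtype.val (pow_card_eq_one' (x := (⟨u, hu⟩ : S.U)))
  rw [← S.ψ_pow hu, ← S.cardU, h, S.ψ_one]

theorem surjU {x : F} (hx : x ^ nrm p q = 1) : ∃ u ∈ S.U, S.ψ u = x := by
  classical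
  haveI := S.finG
  haveI := Fintype.ofFinite S.U
  have hsub : (Finset.univ.image fun u : S.U => S.ψ u) ⊆ S.hyp.normOne := by
    intro z hz
    simp only [Finset.mem_image, Finset.mem_univ, true_and] at hz
    obtain ⟨u, rfl⟩ := hz
    exact S.hyp.mem_normOne.2 (S.ψ_nrm u.2)
  have hcard : (Finset.univ.image fun u : S.U => S.ψ u).card = S.hyp.normOne.card := by
    refine (Finset.card_image_of_injective _ (fun a b hab => Subtype.ext (S.ψ_inj a.2 b.2 hab))).trans ?_
    rw [S.hyp.card_normOne, ← S.cardU, Finset.card_univ, Nat.card_eq_fintype_card]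
    exact Fintype.card_congr (Equiv.refl _)
  have heq := Finset.eq_of_subset_of_card_le hsub hcard.ge
  have := S.hyp.mem_normOne.2 hx
  rw [← heq] at this
  simp only [Finset.mem_image, Finset.mem_univ, true_and] at this
  obtain ⟨u, hu⟩ := this
  exact ⟨u, u.2, hu⟩

theorem lift_mem {x : F} (hx : x ^ nrm p q = 1) : S.lift x ∈ S.U :=
  Function.invFunOn_mem (f := S.ψ) (s := (S.U : Set G)) (S.surjU hx)

theorem ψ_lift {x : F} (hx : x ^ nrm p q = 1) : S.ψ (S.lift x) = x :=
  Function.invFunOn_eq (f := S.ψ) (s := (S.U : Set G)) (S.surjU hx)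

theorem lift_ψ {u : G} (hu : u ∈ S.U) : S.lift (S.ψ u) = u :=
  S.ψ_inj (S.lift_mem (S.ψ_nrm hu)) hu (S.ψ_lift (S.ψ_nrm hu))

theorem τ_ψ (A : ZMod p) {u : G} (hu : u ∈ S.U) : S.τ A (S.ψ u) = S.ψ ((S.t A)⁻¹ * u * S.t A) := by
  rw [τ, S.lift_ψ hu]

theorem conj_e {u : G} (hu : u ∈ S.U) (A : ZMod p) (x : F) :
    u * S.e A x * u⁻¹ = S.e A (S.τ A (S.ψ u) * x) := by
  rw [S.τ_ψ A hu, e, e, ← S.conjU _ (S.t_normU' A hu) x]
  group

theorem nrm_coprime : (nrm p q).Coprime p := by
  rw [Nat.coprime_comm, (Fact.out : p.Prime).coprime_iff_not_dvd]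
  intro hd
  have h1 := nrm_mul p q (Fact.out : p.Prime).two_le
  have h2 : p ∣ p ^ q - 1 := h1 ▸ hd.mul_right _
  have h3 : p ∣ p ^ q := dvd_pow_self p S.hyp.hq.ne_zero
  have h4 := Nat.dvd_sub h3 h2
  rw [Nat.sub_sub_self (Nat.pow_pos S.hyp.hp.pos)] at h4
  exact S.hyp.hp.not_dvd_one h4

omit S in
theorem eq_one_of_pow_p {H : Subgroup G} (hH : (Nat.card H).Coprime p) {g : G} (hg : g ∈ H)
    (hgp : g ^ p = 1) : g = 1 := by
  have h : g ^ Nat.card H = 1 := congrArg Subtype.val (pow_card_eq_one' (x := (⟨g, hg⟩ : H)))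
  have := pow_gcd_eq_one.2 ⟨h, hgp⟩
  rwa [hH.gcd_eq_one, pow_one] at this

/-- no nontrivial element of the prime subgroup equals its conjugate by `y` -/
theorem t_ne_s {c : ZMod p} (hc : c ≠ 0) : S.t c ≠ S.s c := by
  intro h
  have hι : ι c ≠ 0 := (map_ne_zero _).2 hc
  have triv : ∀ u ∈ S.U, S.ψ u = 1 := by
    intro u hu
    have hmem : S.s c * u * (S.s c)⁻¹ * u⁻¹ ∈ S.U := S.U.mul_mem (h ▸ S.t_normU c hu) (S.U.inv_mem hu)
    have heq : S.s c * u * (S.s c)⁻¹ * u⁻¹ = S.π (ι c - S.ψ u * ι c) := by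
      rw [sub_eq_add_neg, S.π_add, S.π_neg, ← S.conjU u hu, s]
      group
    have h1 := eq_one_of_pow_p (p := p) (by rw [S.cardU]; exact S.nrm_coprime) hmem (by
      rw [heq, S.π_pow, nsmul_eq_mul]
      haveI : CharP F p := charP_of_injective_algebraMap (algebraMap (ZMod p) F).injective p
      rw [CharP.cast_eq_zero, zero_mul, S.π_zero])
    rw [heq, ← S.π_zero] at h1
    exact mul_right_cancel₀ hι (by linear_combination -(S.π_inj h1))
  have hsub : S.hyp.normOne ⊆ {1} := fun x hx => by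
    obtain ⟨u, hu, rfl⟩ := S.surjU (S.hyp.mem_normOne.1 hx)
    simp [triv u hu]
  have h1 := Finset.card_le_card hsub
  rw [S.hyp.card_normOne, Finset.card_singleton] at h1
  have h2 := nrm_mul p q S.hyp.hp.two_le
  have h3 : p - 1 < p ^ q - 1 := by
    have : p ^ 1 < p ^ q := Nat.pow_lt_pow_right S.hyp.hp.one_lt S.hyp.hq.one_lt
    rw [pow_one] at this
    have := S.hyp.hp.one_le
    omega
  have : nrm p q = 1 := by have := S.hyp.nrm_pos; omega
  rw [this] at h2
  omega

/-- distinct conjugates of `P` meet trivially on the nose -/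
theorem e_uniq (A B : ZMod p) (x x' : F) (hAB : A ≠ B) (h : S.e A x = S.e B x') : x = 0 := by
  by_contra hx
  haveI : CharP F p := charP_of_injective_algebraMap (algebraMap (ZMod p) F).injective p
  set c := A - B with hc
  set g := S.t c with hg
  have hgx : g * S.π x * g⁻¹ = S.π x' := by
    have ht : S.t A = S.t B * g := by rw [hg, ← S.t_add, hc, add_sub_cancel]
    simp only [e, ht] at h
    calc g * S.π x * g⁻¹ = (S.t B)⁻¹ * (S.t B * g * S.π x * (S.t B * g)⁻¹) * S.t B := by group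
      _ = S.π x' := by rw [h]; group
  have hU : ∀ v, v ^ nrm p q = 1 → ∀ w z, g * S.π w * g⁻¹ = S.π z →
      g * S.π (v * w) * g⁻¹ = S.π (S.τ (-c) v * z) := by
    intro v hv w z hwz
    obtain ⟨u, hu, rfl⟩ := S.surjU hv
    rw [S.τ_ψ _ hu, S.t_neg, inv_inv, ← hg, ← S.conjU u hu w, ← S.conjU _ (S.t_normU c hu) z, ← hwz]
    rw [hg]
    group
  have hnat : ∀ (n : ℕ) w z, g * S.π w * g⁻¹ = S.π z → g * S.π (n * w) * g⁻¹ = S.π (n * z) := by
    intro n w z hwz
    rw [← nsmul_eq_mul, ← nsmul_eq_mul, ← S.π_pow, ← S.π_pow, ← hwz, conj_pow]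
  have hscal : ∀ (r : ZMod p) w z, g * S.π w * g⁻¹ = S.π z → g * S.π (ι r * w) * g⁻¹ = S.π (ι r * z) := by
    intro r w z hwz
    have := hnat r.val w z hwz
    rwa [← map_natCast (algebraMap (ZMod p) F), ZMod.natCast_zmod_val] at this
  have hall : ∀ w, ∃ z, g * S.π w * g⁻¹ = S.π z := by
    intro w
    by_cases hw : w = 0
    · exact ⟨0, by rw [hw, S.π_zero, mul_one, mul_inv_cancel]⟩
    obtain ⟨r, v, -, hv, he⟩ := S.hyp.decomp (w / x) (div_ne_zero hw hx)
    rw [div_eq_iff hx, mul_assoc] at he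
    exact ⟨_, he ▸ hscal r _ _ (hU v hv _ _ hgx)⟩
  choose φ hφ using hall
  have φ_eq : ∀ w z, g * S.π w * g⁻¹ = S.π z → φ w = z := fun w z h => S.π_inj ((hφ w).symm.trans h)
  have φ_add : ∀ a b, φ (a + b) = φ a + φ b := fun a b => φ_eq _ _ (by
    rw [S.π_add, S.π_add, ← hφ, ← hφ]; group)
  have φ_inj : Function.Injective φ := fun a b hab => S.π_inj (by
    have := (hφ a).trans ((congrArg S.π hab).trans (hφ b).symm)
    exact mul_left_cancel (mul_right_cancel this))
  have φ0 : φ 0 = 0 := φ_eq _ _ (by rw [S.π_zero, mul_one, mul_inv_cancel])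
  set κ := φ 1 with hκ
  have κ0 : κ ≠ 0 := fun h0 => one_ne_zero (φ_inj (h0.trans φ0.symm))
  have φ_rv : ∀ (r : ZMod p) v, v ^ nrm p q = 1 → ∀ w, φ (ι r * (v * w)) = ι r * (S.τ (-c) v * φ w) :=
    fun r v hv w => φ_eq _ _ (hscal r _ _ (hU v hv _ _ (hφ w)))
  set σ : F → F := fun w => φ w / κ with hσ
  have σ_mul : ∀ a b, σ (a * b) = σ a * σ b := by
    intro a b
    by_cases ha : a = 0
    · simp [hσ, ha, φ0]
    obtain ⟨r, v, -, hv, rfl⟩ := S.hyp.decomp a ha
    have e1 := φ_rv r v hv 1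
    rw [mul_one, ← hκ] at e1
    simp only [hσ, mul_assoc, φ_rv r v hv b, e1]
    field_simp
  let σh : F →+* F :=
    { toFun := σ
      map_one' := div_self κ0
      map_mul' := σ_mul
      map_zero' := by simp [hσ, φ0]
      map_add' := fun a b => by simp [hσ, φ_add, add_div] }
  let σa : F →ₐ[ZMod p] F :=
    { σh with commutes' := fun r => RingHom.congr_fun (RingHom.ext_zmod (σh.comp (algebraMap (ZMod p) F)) (algebraMap (ZMod p) F)) r }
  let σe : F ≃ₐ[ZMod p] F :=
    AlgEquiv.ofBijective σa ((Finite.injective_iff_bijective).1 σa.toRingHom.injective)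
  have φσ : ∀ w, φ w = κ * σe w := fun w => (mul_div_cancel₀ (φ w) κ0).symm
  have gp : g ^ p = 1 := S.t_pow_p c
  have iter : ∀ n : ℕ, ∃ k : F, (σe = 1 → k = κ ^ n) ∧
      ∀ w, g ^ n * S.π w * (g ^ n)⁻¹ = S.π (k * (σe ^ n) w) := by
    intro n
    induction n with
    | zero => exact ⟨1, fun _ => (pow_zero _).symm, fun w => by simp⟩
    | succ n ih =>
      obtain ⟨k, hk1, hk⟩ := ih
      refine ⟨κ * σe k, fun h1 => by rw [hk1 h1, h1, pow_succ', AlgEquiv.one_apply], fun w => ?_⟩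
      rw [pow_succ' σe, AlgEquiv.mul_apply, mul_assoc κ, ← map_mul σe, ← φσ, ← hφ, ← hk, pow_succ']
      group
  have hσ1 : σe = 1 := by
    obtain ⟨k, -, hk⟩ := iter p
    simp only [gp, one_mul, inv_one, mul_one] at hk
    have hk' := fun w => S.π_inj (hk w)
    have k1 : k = 1 := by have := hk' 1; rw [map_one, mul_one] at this; exact this.symm
    have hp1 : σe ^ p = 1 := AlgEquiv.ext fun w => by
      have := hk' w; rw [k1, one_mul] at this; rw [← this]; rfl
    have hfin : Module.finrank (ZMod p) F = q := by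
      have h1 := Module.card_eq_pow_finrank (K := ZMod p) (V := F)
      rw [ZMod.card, S.hyp.card] at h1
      exact (Nat.pow_right_injective S.hyp.hp.two_le h1).symm
    have hq1 : σe ^ q = 1 := by
      have h1 := pow_card_eq_one' (x := σe)
      rwa [IsGalois.card_aut_eq_finrank, hfin] at h1
    have hcop : Nat.Coprime p q := (Nat.coprime_primes S.hyp.hp S.hyp.hq).2 S.hyp.lt.ne'
    have := pow_gcd_eq_one.2 ⟨hp1, hq1⟩
    rwa [hcop.gcd_eq_one, pow_one] at this
  have hκ1 : κ = 1 := by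
    obtain ⟨k, hk1, hk⟩ := iter p
    have := hk 1
    simp only [gp, one_mul, inv_one, mul_one, map_one, hk1 hσ1] at this
    have h2 : (κ - 1) ^ p = 0 := by
      rw [sub_pow_char (p := p), ← S.π_inj this, one_pow, sub_self]
    exact sub_eq_zero.1 (pow_eq_zero_iff S.hyp.hp.ne_zero |>.1 h2)
  have cent : ∀ w, g * S.π w = S.π w * g := fun w => by
    have := hφ w
    rw [φσ, hκ1, hσ1, one_mul, AlgEquiv.one_apply] at this
    exact (mul_inv_eq_iff_eq_mul.1 this)
  apply S.t_ne_s (sub_ne_zero.2 hAB)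
  rw [← mul_inv_eq_one]
  have hc' : Commute (S.t c) (S.s c)⁻¹ := Commute.inv_right (cent (ι c))
  refine eq_one_of_pow_p (p := p) S.coprimeQ ?_ ?_
  · rw [t, show S.y * S.s (A - B) * S.y⁻¹ * (S.s (A - B))⁻¹ =
      S.y * (S.s (A - B) * S.y⁻¹ * (S.s (A - B))⁻¹) by group]
    exact S.Q.mul_mem S.y_mem (S.normQ _ _ (S.Q.inv_mem S.y_mem))
  · rw [← hc, hc'.mul_pow, inv_pow, S.t_pow_p, S.s_pow_p, inv_one, mul_one]

/-- the orbit of `y` under the prime subgroup, in the abelian group `Q` -/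
def z (L : ZMod p) : S.Q := ⟨S.s L * S.y * (S.s L)⁻¹, S.normQ L _ S.y_mem⟩

/-- conjugation by an element of the prime subgroup -/
def shift (m : ZMod p) : S.Q →* S.Q where
  toFun w := ⟨S.s m * w * (S.s m)⁻¹, S.normQ m _ w.2⟩
  map_one' := Subtype.ext (by simp)
  map_mul' a b := Subtype.ext (by simp only [Subgroup.coe_mul]; group)

theorem shift_z (m L : ZMod p) : S.shift m (S.z L) = S.z (L + m) := by
  apply Subtype.ext
  simp only [shift, z, MonoidHom.coe_mk, OneHom.coe_mk, add_comm L m, S.s_add]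
  group

/-- `Q` is commutative -/
abbrev commQ : CommGroup S.Q :=
  { (inferInstance : Group S.Q) with mul_comm := fun a b => Subtype.ext (S.comm _ a.2 _ b.2) }

/-- the translation part of `e A n` -/
def v (A n : ZMod p) : S.Q := S.z 0 * (S.z A)⁻¹ * S.z (A + n) * (S.z n)⁻¹

theorem e_scal (A n : ZMod p) : S.e A (ι n) = (S.v A n : G) * S.s n := by
  have h1 : S.t A = (S.z 0 : G) * (S.z A : G)⁻¹ * S.s A := by
    simp only [t, z, S.s_zero]; group
  have h2 : (S.t A)⁻¹ = S.y * (S.z (-A) : G)⁻¹ * S.s (-A) := by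
    rw [← S.t_neg, t]; simp only [z]; group
  show S.t A * S.s n * (S.t A)⁻¹ = _
  rw [h2, h1]
  simp only [v, z, Subgroup.coe_mul, InvMemClass.coe_inv, S.s_zero, S.s_neg]
  conv_rhs => rw [show (S.s (A + n))⁻¹ = (S.s A)⁻¹ * (S.s n)⁻¹ by
    rw [add_comm, S.s_add, mul_inv_rev]]
  rw [S.s_add]
  group

theorem e_prod (A B C n m r : ZMod p) :
    S.e A (ι n) * S.e B (ι m) * S.e C (ι r) =
      (S.v A n * S.shift n (S.v B m) * S.shift (n + m) (S.v C r) : S.Q) * S.s (n + m + r) := by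
  simp only [e_scal, Subgroup.coe_mul, shift, MonoidHom.coe_mk, OneHom.coe_mk, S.s_add]
  group

theorem v_prod {A B C n m r : ZMod p} (hr : n + m + r = 0) :
    S.v A n * S.shift n (S.v B m) * S.shift (n + m) (S.v C r) =
      (S.z A)⁻¹ * S.z (A + n) * (S.z (B + n))⁻¹ * S.z (B + n + m) * (S.z (C + n + m))⁻¹ * S.z C := by
  letI := S.commQ
  simp only [v, map_mul, map_inv, shift_z, zero_add]
  rw [show B + m + n = B + n + m by ring, show m + n = n + m by ring,
    show C + (n + m) = C + n + m by ring, show C + r + (n + m) = C by linear_combination hr,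
    show r + (n + m) = 0 by linear_combination hr]
  apply Additive.ofMul.injective
  simp only [ofMul_mul, ofMul_inv]
  abel

theorem canon (A B C : ZMod p) :
    S.e A (ι (C - B)) * S.e B (ι (A - C)) * S.e C (ι (B - A)) = 1 := by
  have h0 : (C - B) + (A - C) + (B - A) = 0 := by ring
  rw [S.e_prod, S.v_prod h0, h0, S.s_zero, mul_one, OneMemClass.coe_eq_one]
  rw [show B + (C - B) = C by ring, show C + (A - C) = A by ring,
    show C + (C - B) + (A - C) = A + (C - B) by ring]
  letI := S.commQ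
  apply Additive.ofMul.injective
  simp only [ofMul_mul, ofMul_inv, ofMul_one]
  abel

theorem prod_eq_one {A B C n m r : ZMod p} (h : S.e A (ι n) * S.e B (ι m) * S.e C (ι r) = 1) :
    n + m + r = 0 ∧
      (S.z A)⁻¹ * S.z (A + n) * (S.z (B + n))⁻¹ * S.z (B + n + m) * (S.z (C + n + m))⁻¹ * S.z C = 1 := by
  rw [S.e_prod, mul_eq_one_iff_inv_eq] at h
  have h0 : n + m + r = 0 := by
    by_contra hne
    have hmem : S.s (n + m + r) ∈ S.Q := h ▸ S.Q.inv_mem (Subtype.coe_prop _)
    have h1 := eq_one_of_pow_p (p := p) S.coprimeQ hmem (S.s_pow_p _)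
    rw [s, ← S.π_zero] at h1
    exact hne ((algebraMap (ZMod p) F).injective (by rw [S.π_inj h1, map_zero]))
  refine ⟨h0, ?_⟩
  rw [h0, S.s_zero, inv_eq_one, OneMemClass.coe_eq_one, S.v_prod h0] at h
  exact h

/-- a character detecting all relations among the orbit of `y` -/
theorem exists_char : ∃ (K : Type) (_ : Field K) (χ : AddChar (ZMod p) K), χ 1 ≠ 1 ∧ (p : K) ≠ 0 ∧
    ∀ A B C n m r : ZMod p, S.e A (ι n) * S.e B (ι m) * S.e C (ι r) = 1 →
      TriEq χ A B C n m r := by
  classical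
  letI := S.commQ
  let d : ZMod p → Additive S.Q := fun L => Additive.ofMul (S.z (L + 1) * (S.z L)⁻¹)
  let Φ : AddMonoidAlgebra ℤ (ZMod p) →+ Additive S.Q :=
    (Finsupp.liftAddHom (fun L => zmultiplesHom (Additive S.Q) (d L))).comp
      AddMonoidAlgebra.coeffAddEquiv.toAddMonoidHom
  have Φs : ∀ L k, Φ (AddMonoidAlgebra.single L k) = k • d L := fun L k => by simp [Φ]
  have Φmul : ∀ (L : ZMod p) (k : ℤ) (x : AddMonoidAlgebra ℤ (ZMod p)),
      Φ (AddMonoidAlgebra.single L k * x) = k • (MonoidHom.toAdditive (S.shift L)) (Φ x) := by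
    intro L k x
    induction x using AddMonoidAlgebra.induction_linear with
    | zero => simp
    | add a b ha hb => rw [mul_add, map_add, map_add, map_add, smul_add, ha, hb]
    | single L' k' =>
      rw [AddMonoidAlgebra.single_mul_single, Φs, Φs, map_zsmul, smul_smul]
      congr 1
      simp only [d, MonoidHom.toAdditive_apply_apply, toMul_ofMul, map_mul, map_inv, shift_z]
      rw [show L + L' + 1 = L' + 1 + L by ring, add_comm L L']
  let I : Ideal (AddMonoidAlgebra ℤ (ZMod p)) :=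
    { carrier := {x | Φ x = 0}
      add_mem' := fun {a b} (ha : Φ a = 0) (hb : Φ b = 0) => by
        show Φ (a + b) = 0
        rw [map_add, ha, hb, add_zero]
      zero_mem' := map_zero Φ
      smul_mem' := fun a x (hx : Φ x = 0) => by
        show Φ (a * x) = 0
        induction a using AddMonoidAlgebra.induction_linear with
        | zero => simp
        | add a b ha hb => rw [add_mul, map_add, ha, hb, add_zero]
        | single L k => rw [Φmul, hx, map_zero, smul_zero] }
  have hI : I ≠ ⊤ := by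
    rw [Ideal.ne_top_iff_one]
    intro h1
    have h2 : Φ 1 = 0 := h1
    rw [AddMonoidAlgebra.one_def, Φs, one_smul] at h2
    have h3 : S.z (0 + 1) * (S.z 0)⁻¹ = 1 := h2
    rw [zero_add, mul_inv_eq_one] at h3
    apply S.t_ne_s (one_ne_zero (α := ZMod p))
    have h4 : S.s 1 * S.y * (S.s 1)⁻¹ = S.y := by
      have := congrArg Subtype.val h3
      simpa [z, S.s_zero] using this
    rw [mul_inv_eq_iff_eq_mul] at h4
    rw [t, ← h4]
    group
  obtain ⟨M, hM, hIM⟩ := I.exists_le_maximal hI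
  letI := Ideal.Quotient.field M
  let mk := Ideal.Quotient.mk M
  let χ : AddChar (ZMod p) (AddMonoidAlgebra ℤ (ZMod p) ⧸ M) :=
    { toFun := fun L => mk (AddMonoidAlgebra.single L 1)
      map_zero_eq_one' := by rw [← AddMonoidAlgebra.one_def, map_one]
      map_add_eq_mul' := fun a b => by rw [← map_mul, AddMonoidAlgebra.single_mul_single, one_mul] }
  have mk0 : ∀ x, Φ x = 0 → mk x = 0 := fun x hx => Ideal.Quotient.eq_zero_iff_mem.2 (hIM hx)
  have hp0 : (p : AddMonoidAlgebra ℤ (ZMod p) ⧸ M) ≠ 0 := by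
    intro hp0
    have hQ : ((Nat.card S.Q : ℕ) : AddMonoidAlgebra ℤ (ZMod p) ⧸ M) = 0 := by
      rw [← map_natCast mk]
      apply mk0
      rw [← nsmul_one, map_nsmul, AddMonoidAlgebra.one_def, Φs, one_smul]
      show Additive.ofMul ((S.z (0 + 1) * (S.z 0)⁻¹) ^ Nat.card S.Q) = 0
      rw [pow_card_eq_one', ofMul_one]
    obtain ⟨a, b, hab⟩ := Int.isCoprime_iff_nat_coprime.2 (show Nat.Coprime (Nat.card S.Q : ℤ).natAbs (p : ℤ).natAbs by simpa using S.coprimeQ)
    have := congrArg (Int.cast : ℤ → AddMonoidAlgebra ℤ (ZMod p) ⧸ M) hab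
    push_cast at this
    rw [hQ, hp0, mul_zero, mul_zero, add_zero] at this
    exact zero_ne_one this
  refine ⟨_, inferInstance, χ, ?_, hp0, ?_⟩
  · intro h1
    apply hp0
    have hone : ∀ L : ZMod p, χ L = 1 := fun L => by
      rw [← ZMod.natCast_zmod_val L, ← nsmul_one, AddChar.map_nsmul_eq_pow, h1, one_pow]
    have hs : ∑ L, χ L = 0 := by
      show ∑ L, mk (AddMonoidAlgebra.single L 1) = 0
      rw [← map_sum]
      apply mk0
      simp only [map_sum, Φs, one_smul, d, ofMul_mul, ofMul_inv, Finset.sum_add_distrib,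
        Finset.sum_neg_distrib]
      rw [add_neg_eq_zero]
      exact Fintype.sum_equiv (Equiv.addRight (1 : ZMod p)) _ (fun L => Additive.ofMul (S.z L)) (fun L => rfl)
    simpa [hone, ZMod.card] using hs
  · intro A B C n m r h
    obtain ⟨h0, h1⟩ := S.prod_eq_one h
    refine ⟨h0, ?_⟩
    have h2 := congrArg (S.shift 1) h1
    simp only [map_mul, map_inv, map_one, shift_z] at h2
    have key : mk (-AddMonoidAlgebra.single A 1 + AddMonoidAlgebra.single (A + n) 1 -
        AddMonoidAlgebra.single (B + n) 1 + AddMonoidAlgebra.single (B + n + m) 1 -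
        AddMonoidAlgebra.single (C + n + m) 1 + AddMonoidAlgebra.single C 1) = 0 := by
      apply mk0
      simp only [map_add, map_sub, map_neg, Φs, one_smul, d, ofMul_mul, ofMul_inv]
      have e1 := congrArg Additive.ofMul h1
      have e2 := congrArg Additive.ofMul h2
      simp only [ofMul_mul, ofMul_inv, ofMul_one] at e1 e2
      rw [← sub_eq_zero.2 (e2.trans e1.symm)]
      abel
    simp only [map_add, map_sub, map_neg] at key
    change -χ A + χ (A + n) - χ (B + n) + χ (B + n + m) - χ (C + n + m) + χ C = 0 at key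
    rw [chi2, chi2, chi2]
    rw [show r = -(n + m) by linear_combination h0]
    simp only [AddChar.map_add_eq_mul] at key ⊢
    have hinv : χ (-(n + m)) * (χ n * χ m) = 1 := by
      rw [← AddChar.map_add_eq_mul, ← AddChar.map_add_eq_mul, neg_add_cancel, AddChar.map_zero_eq_one]
    linear_combination key - (1 - χ C) * hinv

/-- the configuration is impossible -/
theorem contradiction : False := by
  obtain ⟨K, _, χ, hχ, hpK, htri⟩ := S.exists_char
  let c : Config.Conf p (nrm p q) F K G :=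
    { χ := χ
      hχ := hχ
      hpK := hpK
      five := S.hyp.five
      e := S.e
      e_add := fun A x x' => by simp only [e, S.π_add]; group
      τ := S.τ
      τ_zero := fun u hu => by
        rw [τ, S.t_zero, inv_one, one_mul, mul_one, S.ψ_lift hu]
      τ_add := fun A B u hu => by
        have hu' := S.t_normU' B (S.lift_mem hu)
        rw [show S.τ B u = S.ψ ((S.t B)⁻¹ * S.lift u * S.t B) from rfl, S.τ_ψ A hu', τ,
          add_comm A B, S.t_add]
        congr 1
        group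
      τ_mul := fun A u u' hu hu' => by
        obtain ⟨a, ha, rfl⟩ := S.surjU hu
        obtain ⟨b, hb, rfl⟩ := S.surjU hu'
        rw [← S.ψ_mul a ha b hb, S.τ_ψ A (S.U.mul_mem ha hb), S.τ_ψ A ha, S.τ_ψ A hb,
          ← S.ψ_mul _ (S.t_normU' A ha) _ (S.t_normU' A hb)]
        congr 1
        group
      τ_mem := fun A u hu => S.ψ_nrm (S.t_normU' A (S.lift_mem hu))
      conj := fun u hu => by
        obtain ⟨a, ha, rfl⟩ := S.surjU hu
        exact ⟨a, fun A x => S.conj_e ha A x⟩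
      uniq := S.e_uniq
      canon := S.canon
      tri := htri
      neg_one := S.hyp.neg_one
      scal_one := S.hyp.scal_one
      decomp := S.hyp.decomp
      fixed := fun x hx => Hyp.fixed x hx
      line := S.hyp.line }
  obtain ⟨a, ha, hb, ha1⟩ := Existence.exists_pair S.hyp
  exact ha1 (c.pair_trivial (b := 2 - a) ⟨ha, hb, by ring⟩)

end Setup

end Cfsg.Agent.Lib.AppendixC.Concrete
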