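import Mathlib

/-!
Bender-Glauberman Appendix C (final step of the odd order theorem): the algebra of the triangle equations.
`χ` is a character of `ZMod p` into a field, and a triangle with levels `A, B, C` and classes
`nA, nB, nC` is an identity among three rotations of the affine line.
-/

namespace Cfsg.Agent.Lib.AppendixC.Algebra

variable {p : ℕ} [Fact p.Prime] {K : Type*} [Field K]

/-- translation part of the rotation of class `n` at level `A` -/
def chi2 (χ : AddChar (ZMod p) K) (A n : ZMod p) : K := (1 - χ A) * (1 - χ n)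

/-- three rotations with product one -/
def TriEq (χ : AddChar (ZMod p) K) (A B C nA nB nC : ZMod p) : Prop :=
  nA + nB + nC = 0 ∧ chi2 χ A nA + χ nA * chi2 χ B nB + χ (nA + nB) * chi2 χ C nC = 0

/-- the triangle `A, B, C` holds with classes proportional to `g` -/
def Good (χ : AddChar (ZMod p) K) (g : ZMod p → ZMod p) (A B C : ZMod p) : Prop :=
  TriEq χ A B C ((C - B) * g A) ((A - C) * g B) ((B - A) * g C)

theorem good_of_degenerate (χ : AddChar (ZMod p) K) (g : ZMod p → ZMod p) {A B C : ZMod p}
    (h : A = B ∨ B = C ∨ C = A) : Good χ g A B C := by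
  rcases h with h | h | h <;> subst h <;> refine ⟨by ring, ?_⟩
  · simp only [chi2, sub_self, zero_mul, AddChar.map_zero_eq_one, mul_zero, add_zero,
      show (C - A) * g A + (A - C) * g A = 0 by ring,
      show (A - C) * g A = -((C - A) * g A) by ring]
    have e : χ ((C - A) * g A) * χ (-((C - A) * g A)) = 1 := by
      rw [← AddChar.map_add_eq_mul, add_neg_cancel, AddChar.map_zero_eq_one]
    linear_combination (χ A - 1) * e
  · simp only [chi2, sub_self, zero_mul, AddChar.map_zero_eq_one, mul_zero, zero_add, one_mul,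
      show (B - A) * g B = -((A - B) * g B) by ring]
    have e : χ ((A - B) * g B) * χ (-((A - B) * g B)) = 1 := by
      rw [← AddChar.map_add_eq_mul, add_neg_cancel, AddChar.map_zero_eq_one]
    linear_combination (χ B - 1) * e
  · simp only [chi2, sub_self, zero_mul, AddChar.map_zero_eq_one, mul_zero, add_zero,
      show (B - C) * g C = -((C - B) * g C) by ring]
    have e : χ ((C - B) * g C) * χ (-((C - B) * g C)) = 1 := by
      rw [← AddChar.map_add_eq_mul, add_neg_cancel, AddChar.map_zero_eq_one]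
    linear_combination (χ C - 1) * e

theorem good_congr (χ : AddChar (ZMod p) K) {g g' : ZMod p → ZMod p} {A B C : ZMod p}
    (hg : ∀ L, L ≠ 0 → g L = g' L) (h : (A ≠ 0 ∧ B ≠ 0 ∧ C ≠ 0) ∨ (A = B ∨ B = C ∨ C = A))
    (hgood : Good χ g A B C) : Good χ g' A B C := by
  rcases h with ⟨hA, hB, hC⟩ | h
  · simpa only [Good, ← hg A hA, ← hg B hB, ← hg C hC] using hgood
  · exact good_of_degenerate χ g' h

variable {χ : AddChar (ZMod p) K}

/-- the coefficients of a vanishing trigonometric sum vanish -/
theorem coeff_zero (hχ : χ 1 ≠ 1) (hp : (p : K) ≠ 0) {n : ℕ} (e : Fin n → ZMod p) (c : Fin n → K)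
    (h : ∀ m, ∑ i, c i * χ (e i * m) = 0) (x : ZMod p) : ∑ i, (if e i = x then c i else 0) = 0 := by
  have key : ∀ a : ZMod p, ∑ m, χ (a * m) = if a = 0 then (p : K) else 0 := by
    intro a
    split_ifs with ha
    · simp [ha, ZMod.card]
    · have hne : AddChar.mulShift χ a ≠ 1 := by
        intro h1
        apply hχ
        have := DFunLike.congr_fun h1 a⁻¹
        rwa [AddChar.mulShift_apply, mul_inv_cancel₀ ha, AddChar.one_apply] at this
      simpa [AddChar.mulShift_apply] using AddChar.sum_eq_zero_of_ne_one hne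
  have h2 : (p : K) * ∑ i, (if e i = x then c i else 0) = 0 := by
    calc (p : K) * ∑ i, (if e i = x then c i else 0)
        = ∑ i, c i * ∑ m, χ ((e i - x) * m) := by
          rw [Finset.mul_sum]
          refine Finset.sum_congr rfl fun i _ => ?_
          rw [key]
          by_cases hi : e i = x <;> simp [hi, sub_eq_zero, mul_comm]
      _ = ∑ m, χ (-x * m) * ∑ i, c i * χ (e i * m) := by
          simp only [Finset.mul_sum]
          rw [Finset.sum_comm]
          refine Finset.sum_congr rfl fun m _ => Finset.sum_congr rfl fun i _ => ?_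
          rw [show (e i - x) * m = -x * m + e i * m by ring, AddChar.map_add_eq_mul]
          ring
      _ = 0 := by simp [h]
  exact (mul_eq_zero.1 h2).resolve_left hp

/-- an exponent that occurs once has zero coefficient -/
theorem coeff_unique (hχ : χ 1 ≠ 1) (hp : (p : K) ≠ 0) {n : ℕ} (e : Fin n → ZMod p) (c : Fin n → K)
    (h : ∀ m, ∑ i, c i * χ (e i * m) = 0) (i : Fin n) (hi : ∀ j, j ≠ i → e j ≠ e i) : c i = 0 := by
  have := coeff_zero hχ hp e c h (e i)
  rw [Finset.sum_eq_single i (fun j _ hj => if_neg (hi j hj)) (by simp)] at this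
  simpa using this

theorem natCast_ne_zero {n : ℕ} (h0 : 0 < n) (hn : n < p) : (n : ZMod p) ≠ 0 := by
  rw [Ne, ZMod.natCast_eq_zero_iff]
  intro h
  exact absurd (Nat.le_of_dvd h0 h) (by omega)

theorem chi_ne_one (hχ : χ 1 ≠ 1) {x : ZMod p} (hx : x ≠ 0) : χ x ≠ 1 := by
  intro h
  apply hχ
  have h1 := AddChar.map_nsmul_eq_pow χ (x⁻¹).val x
  rw [h, one_pow, nsmul_eq_mul, ZMod.natCast_val, ZMod.cast_id, inv_mul_cancel₀ hx] at h1
  exact h1

/-- Functional equations force `G` to be affine. -/
theorem affine (hp5 : 5 ≤ p) (G : ZMod p → ZMod p)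
    (hT : ∀ j : ZMod p, j ≠ 0 → j * G j + (j - 1) * G (1 - j) + (1 - 2 * j) * G 1 = 0)
    (hM : ∀ j : ZMod p, j ≠ 0 → (2 + j) * G j + (j - 2) * G (-j) - 2 * j * G 2 = 0)
    (hS : G (-2⁻¹) - 3 * G 2⁻¹ + 2 * G 1 = 0) :
    ∀ j : ZMod p, j ≠ 0 → G j = (2 * G 1 - G 2) + (G 2 - G 1) * j := by
  have e2 : (2 : ZMod p) ≠ 0 := by simpa using natCast_ne_zero (p := p) (n := 2) (by norm_num) (by omega)
  have e3 : (3 : ZMod p) ≠ 0 := by simpa using natCast_ne_zero (p := p) (n := 3) (by norm_num) (by omega)
  set P : ZMod p → ZMod p := fun j => G j - ((2 * G 1 - G 2) + (G 2 - G 1) * j) with hP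
  set pol : ZMod p → ZMod p := fun j => (j - 1) * (j + 1) * (j - 2) with hpol
  have e12 : pol (-2) ≠ 0 := by
    have : pol (-2) = -(2 * 2 * 3) := by simp only [hpol]; ring
    rw [this, neg_ne_zero]
    exact mul_ne_zero (mul_ne_zero e2 e2) e3
  set c := P (-2) / pol (-2) with hc
  have T' : ∀ j : ZMod p, j ≠ 0 → j * P j + (j - 1) * P (1 - j) = 0 := fun j hj => by
    simp only [hP]; linear_combination hT j hj
  have M' : ∀ j : ZMod p, j ≠ 0 → (2 + j) * P j + (j - 2) * P (-j) = 0 := fun j hj => by
    simp only [hP]; linear_combination hM j hj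
  have main : ∀ n : ℕ, 2 ≤ n → n ≤ p - 1 →
      P (n : ZMod p) = c * pol n ∧ P (-(n : ZMod p)) = c * pol (-(n : ZMod p)) := by
    intro n h2
    induction n, h2 using Nat.le_induction with
    | base =>
      intro _
      refine ⟨?_, ?_⟩
      · simp only [hP, hpol, Nat.cast_ofNat]; ring
      · rw [Nat.cast_ofNat, hc, div_mul_cancel₀ _ e12]
    | succ n hn ih =>
      intro hle
      obtain ⟨-, ihn⟩ := ih (by omega)
      have n0 : (n : ZMod p) ≠ 0 := natCast_ne_zero (by omega) (by omega)
      have n1 : ((n + 1 : ℕ) : ZMod p) ≠ 0 := natCast_ne_zero (by omega) (by omega)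
      have nm : ((n - 1 : ℕ) : ZMod p) ≠ 0 := natCast_ne_zero (by omega) (by omega)
      rw [Nat.cast_sub (by omega), Nat.cast_one] at nm
      push_cast at n1 ⊢
      have hT' := T' (-(n : ZMod p)) (neg_ne_zero.2 n0)
      rw [ihn, sub_neg_eq_add, add_comm 1 (n : ZMod p)] at hT'
      have h1 : P ((n : ZMod p) + 1) = c * pol ((n : ZMod p) + 1) := by
        apply mul_left_cancel₀ n1
        simp only [hpol] at hT' ⊢
        linear_combination -hT'
      refine ⟨h1, ?_⟩
      have hM' := M' _ n1
      rw [h1] at hM'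
      apply mul_left_cancel₀ nm
      simp only [hpol] at hM' ⊢
      linear_combination hM'
  have full : ∀ j : ZMod p, j ≠ 0 → P j = c * pol j := by
    intro j hj
    have hv : j.val < p := ZMod.val_lt j
    have hv0 : j.val ≠ 0 := by rwa [ne_eq, ZMod.val_eq_zero]
    rcases (by omega : j.val = 1 ∨ 2 ≤ j.val) with h1 | h2
    · have : j = 1 := by rw [← ZMod.natCast_zmod_val j, h1, Nat.cast_one]
      subst this
      simp only [hP, hpol]; ring
    · simpa using (main j.val h2 (by omega)).1
  have ih : (2⁻¹ : ZMod p) ≠ 0 := inv_ne_zero e2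
  have c0 : c = 0 := by
    have h1 := full _ ih
    have h2 := full _ (neg_ne_zero.2 ih)
    have hh : (2 : ZMod p) * 2⁻¹ = 1 := mul_inv_cancel₀ e2
    simp only [hP, hpol] at h1 h2
    have h8 : c * (2 * 2 * 3) = 0 := by grind
    rcases mul_eq_zero.1 h8 with h | h
    · exact h
    · exact absurd h (mul_ne_zero (mul_ne_zero e2 e2) e3)
  intro j hj
  have := full j hj
  rw [c0, zero_mul] at this
  simpa [hP, sub_eq_zero] using this

/-- `g` constant: the constant is one. -/
theorem const_case (hχ : χ 1 ≠ 1) (hp : (p : K) ≠ 0) (hp5 : 5 ≤ p) {k s : ZMod p} (hk : k ≠ 0)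
    (hs : s ≠ 0) (hM : ∀ m, Good χ (fun _ => s) m (-m) (2 * k)) : s = 1 := by
  have h1 : (1 : ZMod p) ≠ 0 := one_ne_zero
  have h2 : (2 : ZMod p) ≠ 0 := by simpa using natCast_ne_zero (p := p) (n := 2) (by norm_num) (by omega)
  have h3 : (3 : ZMod p) ≠ 0 := by simpa using natCast_ne_zero (p := p) (n := 3) (by norm_num) (by omega)
  have h4 : (4 : ZMod p) ≠ 0 := by simpa using natCast_ne_zero (p := p) (n := 4) (by norm_num) (by omega)
  by_contra hs1
  set u := χ (2 * k * s) with hu
  set η := χ (2 * k) with hη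
  let e : Fin 6 → ZMod p := ![s + 1, s - 1, 1, 0, 2 * s - 1, 2 * s]
  let c : Fin 6 → K := ![u, -u, -1, η, 1, -η]
  have hE : ∀ m, ∑ i, c i * χ (e i * m) = 0 := by
    intro m
    have := (hM m).2
    simp only [chi2] at this
    rw [show (2 * k - -m) * s + (m - 2 * k) * s = 2 * s * m by ring,
      show (2 * k - -m) * s = 2 * k * s + s * m by ring,
      show (m - 2 * k) * s = -(2 * k * s + s * m) + 2 * s * m by ring,
      show (-m - m) * s = -(2 * s * m) by ring] at this
    simp only [AddChar.map_add_eq_mul, AddChar.map_neg_eq_inv] at this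
    rw [← hu, ← hη] at this
    simp only [e, c, Fin.sum_univ_succ, Fin.sum_univ_zero, Matrix.cons_val_zero, Matrix.cons_val_succ,
      add_zero, show (s + 1) * m = s * m + m by ring, show (s - 1) * m = s * m + -m by ring,
      show (2 * s - 1) * m = 2 * s * m + -m by ring, one_mul, zero_mul,
      AddChar.map_zero_eq_one, AddChar.map_add_eq_mul, AddChar.map_neg_eq_inv]
    have hne : ∀ x, χ x ≠ 0 := fun x h => by
      have := AddChar.map_add_eq_mul χ x (-x)
      rw [add_neg_cancel, h, zero_mul, AddChar.map_zero_eq_one] at this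
      exact one_ne_zero this
    have hz := mul_inv_cancel₀ (hne m)
    have hW := mul_inv_cancel₀ (mul_ne_zero (hne (2 * k * s)) (hne (s * m)))
    have hρ := mul_inv_cancel₀ (hne (2 * s * m))
    rw [← hu] at hW
    linear_combination this + (1 - (χ m)⁻¹) * (χ (2 * s * m)) * hW + (1 - η) * hρ
  have hu0 : u ≠ 0 := by
    intro h
    have := AddChar.map_add_eq_mul χ (2 * k * s) (-(2 * k * s))
    rw [add_neg_cancel, ← hu, h, zero_mul, AddChar.map_zero_eq_one] at this
    exact one_ne_zero this
  have hη0 : η ≠ 0 := by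
    intro h
    have := AddChar.map_add_eq_mul χ (2 * k) (-(2 * k))
    rw [add_neg_cancel, ← hη, h, zero_mul, AddChar.map_zero_eq_one] at this
    exact one_ne_zero this
  by_cases hm1 : s = -1
  · have := coeff_unique hχ hp e c hE 2 (by intro j hj; fin_cases j <;> simp [e] at hj ⊢ <;> grind)
    simp [c] at this
  by_cases hh : 2 * s = 1
  · have := coeff_unique hχ hp e c hE 0 (by intro j hj; fin_cases j <;> simp [e] at hj ⊢ <;> grind)
    simp [c, hu0] at this
  have := coeff_unique hχ hp e c hE 3 (by intro j hj; fin_cases j <;> simp [e] at hj ⊢ <;> grind)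
  simp [c, hη0] at this

theorem chi_ne_zero (x : ZMod p) : χ x ≠ 0 := fun h => by
  have := AddChar.map_add_eq_mul χ x (-x)
  rw [add_neg_cancel, h, zero_mul, AddChar.map_zero_eq_one] at this
  exact one_ne_zero this

/-- the exponents in the linear case -/
def expo (d : ZMod p) : Fin 16 → ZMod p :=
  ![d + 2, d, d + 1, d - 1, 2 * d, 2 * d - 2, 2 * d + 1, 2 * d - 1, 2, 1, 0, -1,
    2 * d + 1, 2 * d, 2 * d - 1, 2 * d - 2]

/-- the coefficients in the linear case -/
def coef (κ η C : K) : Fin 16 → K :=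
  ![1, -1, -κ, κ, -C, C, C, -C, -1, η, κ, -(κ * η), -η, 1, η * κ, -κ]

/-- the prime 5 -/
local instance fact5 : Fact (Nat.Prime 5) := ⟨by norm_num⟩

/-- the prime 7 -/
local instance fact7 : Fact (Nat.Prime 7) := ⟨by norm_num⟩

theorem five {L : Type*} [Field L] (d : ZMod 5) (κ η C : L) (hκ : κ ≠ 0) (hη : η ≠ 0) (hd : d ≠ 0)
    (hc : ∀ x, ∑ i, (if expo d i = x then coef κ η C i else 0) = 0) :
    (d = 2 ∧ (C = 1 → κ * η = 1)) ∨ d = 4 := by
  have hd' : d = 1 ∨ d = 2 ∨ d = 3 ∨ d = 4 := by clear hc; revert hd; revert d; decide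
  rcases hd' with rfl | rfl | rfl | rfl
  · have := hc 4
    simp (config := { decide := true }) [expo, coef, Fin.sum_univ_succ, hκ, hη] at this
  · refine Or.inl ⟨rfl, fun hC => ?_⟩
    have := hc 4
    simp (config := { decide := true }) [expo, coef, Fin.sum_univ_succ, hC] at this
    linear_combination -this
  · have := hc 3
    simp (config := { decide := true }) [expo, coef, Fin.sum_univ_succ] at this
  · exact Or.inr rfl

theorem seven {L : Type*} [Field L] (d : ZMod 7) (κ η C : L) (hκ : κ ≠ 0) (hη : η ≠ 0) (hd : d ≠ 0)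
    (h2 : d = 2 → C = 1) (h3 : d = 3 → C = η * κ)
    (hc : ∀ x, ∑ i, (if expo d i = x then coef κ η C i else 0) = 0) : False := by
  have hd' : d = 1 ∨ d = 2 ∨ d = 3 ∨ d = 4 ∨ d = 5 ∨ d = 6 := by
    clear hc h2 h3; revert hd; revert d; decide
  rcases hd' with rfl | rfl | rfl | rfl | rfl | rfl
  · have := hc 6
    simp (config := { decide := true }) [expo, coef, Fin.sum_univ_succ, hκ, hη] at this
  · have := hc 4
    simp (config := { decide := true }) [expo, coef, Fin.sum_univ_succ, h2 rfl] at this
  · have := hc 5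
    simp (config := { decide := true }) [expo, coef, Fin.sum_univ_succ, h3 rfl] at this
  · have := hc 4
    simp (config := { decide := true }) [expo, coef, Fin.sum_univ_succ] at this
  · have := hc 5
    simp (config := { decide := true }) [expo, coef, Fin.sum_univ_succ] at this
  · have := hc 2
    simp (config := { decide := true }) [expo, coef, Fin.sum_univ_succ] at this

/-- `g` proportional to the level is impossible. -/
theorem linear_case (hχ : χ 1 ≠ 1) (hp : (p : K) ≠ 0) (hp5 : 5 ≤ p) {k β : ZMod p} (hk : k ≠ 0)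
    (hβ : β ≠ 0) (hM : ∀ m, Good χ (fun L => β * L) m (-m) (2 * k))
    (hT : ∀ X, Good χ (fun L => β * L) X (k - X) k)
    (hS : Good χ (fun L => β * L) (-(2⁻¹ * k)) (2⁻¹ * k) k) : False := by
  set d : ZMod p := 2 * β * k with hd
  set κ := χ k with hκ
  set η := χ (2 * k) with hη
  set C := κ * χ (-(β * k * k)) with hC
  have hd0 : d ≠ 0 := by
    have : (2 : ZMod p) ≠ 0 := by
      simpa using natCast_ne_zero (p := p) (n := 2) (by norm_num) (by omega)
    exact mul_ne_zero (mul_ne_zero this hβ) hk
  have hηκ : η = κ * κ := by rw [hη, two_mul, AddChar.map_add_eq_mul]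
  have hκ0 : κ ≠ 0 := chi_ne_zero k
  have hE : ∀ m, ∑ i, coef κ η C i * χ (expo d i * m) = 0 := by
    intro m
    have EM := (hM m).2
    have ET := (hT m).2
    simp only [chi2] at EM ET
    rw [show (2 * k - -m) * (β * m) + (m - 2 * k) * (β * -m) = d * m + d * m by rw [hd]; ring,
      show (2 * k - -m) * (β * m) = β * m * m + d * m by rw [hd]; ring,
      show (m - 2 * k) * (β * -m) = -(β * m * m + d * m) + (d * m + d * m) by rw [hd]; ring,
      show (-m - m) * (β * (2 * k)) = -(d * m + d * m) by rw [hd]; ring] at EM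
    rw [show (k - (k - m)) * (β * m) + (m - k) * (β * (k - m)) = d * m + -(β * k * k) by rw [hd]; ring,
      show (k - (k - m)) * (β * m) = β * m * m by ring,
      show (m - k) * (β * (k - m)) = -(β * m * m) + (d * m + -(β * k * k)) by rw [hd]; ring,
      show (k - m - m) * (β * k) = -(d * m + -(β * k * k)) by rw [hd]; ring,
      sub_eq_add_neg k m] at ET
    simp only [AddChar.map_add_eq_mul, AddChar.map_neg_eq_inv] at EM ET
    rw [← hη] at EM
    rw [← hκ] at ET
    simp only [expo, coef, Fin.sum_univ_succ, Fin.sum_univ_zero, Matrix.cons_val_zero,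
      Matrix.cons_val_succ, add_zero,
      show (d + 2) * m = d * m + (m + m) by ring, show (d + 1) * m = d * m + m by ring,
      show (d - 1) * m = d * m + -m by ring, show 2 * d * m = d * m + d * m by ring,
      show (2 * d - 2) * m = d * m + d * m + (-m + -m) by ring,
      show (2 * d + 1) * m = d * m + d * m + m by ring,
      show (2 * d - 1) * m = d * m + d * m + -m by ring, show (2 : ZMod p) * m = m + m by ring,
      one_mul, zero_mul, neg_one_mul,
      AddChar.map_zero_eq_one, AddChar.map_add_eq_mul, AddChar.map_neg_eq_inv]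
    rw [hC, AddChar.map_neg_eq_inv]
    set z := χ m
    set w := χ (d * m)
    set Q := χ (β * m * m)
    set B := χ (β * k * k)
    have hz : z * z⁻¹ = 1 := mul_inv_cancel₀ (chi_ne_zero m)
    have hQ : Q * Q⁻¹ = 1 := mul_inv_cancel₀ (chi_ne_zero _)
    have hw : w * w⁻¹ = 1 := mul_inv_cancel₀ (chi_ne_zero _)
    have hB : B * B⁻¹ = 1 := mul_inv_cancel₀ (chi_ne_zero _)
    have EM' : Q * w * (z - z⁻¹) - (z - η) - w * w * (η - z⁻¹) = 0 := by
      simp only [mul_inv] at EM
      grind
    have ET' : Q * (z - κ * z⁻¹) - (z - κ) + w * B⁻¹ * κ * (z⁻¹ - 1) = 0 := by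
      simp only [mul_inv, inv_inv] at ET
      grind
    linear_combination -(w * (z - z⁻¹)) * ET' + (z - κ * z⁻¹) * EM' +
      (w + κ * B⁻¹ * (w * w) - κ - w * w) * hz
  have hsmall : ∀ n : ℕ, (n : ZMod p) = 0 → 0 < n → p ≤ n := fun n h h0 => by
    rw [ZMod.natCast_eq_zero_iff] at h
    exact Nat.le_of_dvd h0 h
  rcases (by
    have : p ≠ 6 := by rintro rfl; exact absurd (Fact.out (p := Nat.Prime 6)) (by norm_num)
    have : p ≠ 8 := by rintro rfl; exact absurd (Fact.out (p := Nat.Prime 8)) (by norm_num)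
    have : p ≠ 9 := by rintro rfl; exact absurd (Fact.out (p := Nat.Prime 9)) (by norm_num)
    have : p ≠ 10 := by rintro rfl; exact absurd (Fact.out (p := Nat.Prime 10)) (by norm_num)
    omega : p = 5 ∨ p = 7 ∨ 11 ≤ p) with h5 | h7 | h11
  · subst h5
    have hc := coeff_zero hχ hp (expo d) (coef κ η C) hE
    have nz : ∀ n : ℕ, 0 < n → n < 5 → (n : ZMod 5) ≠ 0 := fun n => natCast_ne_zero
    have t3 : (3 : ZMod 5) ≠ 0 := by exact_mod_cast nz 3 (by norm_num) (by norm_num)
    have t2 : (2 : ZMod 5) ≠ 0 := by exact_mod_cast nz 2 (by norm_num) (by norm_num)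
    have t4 : ((4 : ℕ) : ZMod 5) ≠ 0 := nz 4 (by norm_num) (by norm_num)
    have hp5' : ((5 : ℕ) : ZMod 5) = 0 := ZMod.natCast_self 5
    rcases five d κ η C hκ0 (chi_ne_zero _) hd0 hc with ⟨h, h'⟩ | h
    · have hbk : β * k = 1 := by
        have : (2 : ZMod 5) * (β * k) = 2 := by rw [← mul_assoc, ← hd, h]
        exact mul_left_cancel₀ t2 (this.trans (mul_one 2).symm)
      have hC1 : C = 1 := by
        rw [hC, hbk, one_mul, hκ, ← AddChar.map_add_eq_mul, add_neg_cancel, AddChar.map_zero_eq_one]
      apply chi_ne_one hχ (mul_ne_zero t3 hk)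
      rw [show (3 : ZMod 5) * k = k + 2 * k by ring, AddChar.map_add_eq_mul, ← hη, ← hκ]
      exact h' hC1
    · set e := 2⁻¹ * k with he
      have h2 : (2 : ZMod 5) * 2⁻¹ = 1 := mul_inv_cancel₀ t2
      have hk2 : k = e + e := by rw [he, ← two_mul, ← mul_assoc, h2, one_mul]
      have hbe : β * e = 1 := by
        have : (2 : ZMod 5) * 2 * (β * e) = 2 * 2 := by
          rw [he, show (2 : ZMod 5) * 2 * (β * (2⁻¹ * k)) = (2 * 2⁻¹) * (2 * β * k) by ring, h2,
            ← hd, h]
          ring
        exact mul_left_cancel₀ (mul_ne_zero t2 t2) (this.trans (mul_one _).symm)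
      have pw : ∀ n : ℕ, χ ((n : ZMod 5) * e) = χ e ^ n := fun n => by
        rw [← nsmul_eq_mul, AddChar.map_nsmul_eq_pow]
      have e5 : χ e ^ 5 = 1 := by rw [← pw, hp5', zero_mul, AddChar.map_zero_eq_one]
      push_cast at hp5'
      have ES := hS.2
      simp only [chi2] at ES
      rw [show (k - e) * (β * -e) = ((4 : ℕ) : ZMod 5) * e by
            rw [mul_neg, hk2, hbe]; push_cast; linear_combination (-e) * hp5',
        show (-e - k) * (β * e) = ((2 : ℕ) : ZMod 5) * e by
            rw [hk2, hbe]; push_cast; linear_combination (-e) * hp5',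
        show (e - -e) * (β * k) = ((4 : ℕ) : ZMod 5) * e by
            rw [hk2, mul_add, hbe]; push_cast; ring,
        ← add_mul, ← Nat.cast_add,
        show -e = ((4 : ℕ) : ZMod 5) * e by push_cast; linear_combination (-e) * hp5',
        show k = ((2 : ℕ) : ZMod 5) * e by push_cast; linear_combination hk2] at ES
      simp only [pw] at ES
      have key : (χ e ^ 2 - 1) ^ 2 = 0 := by
        linear_combination -ES - (1 - χ e ^ 2) * (2 + χ e ^ 5) * e5
      have := sub_eq_zero.1 (pow_eq_zero_iff two_ne_zero |>.1 key)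
      rw [← pw, Nat.cast_ofNat] at this
      exact chi_ne_one hχ (mul_ne_zero t2 (mul_ne_zero (inv_ne_zero t2) hk)) this
  · subst h7
    have t7 : ((7 : ℕ) : ZMod 7) = 0 := ZMod.natCast_self 7
    have t2 : (2 : ZMod 7) ≠ 0 := by exact_mod_cast natCast_ne_zero (p := 7) (n := 2) (by norm_num) (by norm_num)
    push_cast at t7
    refine seven d κ η C hκ0 (chi_ne_zero _) hd0 (fun h => ?_) (fun h => ?_)
      (coeff_zero hχ hp (expo d) (coef κ η C) hE)
    · have hbk : β * k = 1 := by
        refine mul_left_cancel₀ t2 ?_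
        rw [← mul_assoc, ← hd, h, mul_one]
      rw [hC, hbk, one_mul, hκ, ← AddChar.map_add_eq_mul, add_neg_cancel, AddChar.map_zero_eq_one]
    · have hbk : β * k = 5 := by
        refine mul_left_cancel₀ t2 ?_
        rw [← mul_assoc, ← hd, h]
        linear_combination -t7
      rw [hC, hκ, hη, ← AddChar.map_add_eq_mul, ← AddChar.map_add_eq_mul, hbk]
      exact congrArg χ (by linear_combination (-k) * t7)
  · have ne : ∀ n : ℕ, 0 < n → n < 11 → (n : ZMod p) ≠ 0 := fun n h0 hn h => by
      have := hsmall n h h0; omega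
    have n1 := ne 1 (by norm_num) (by norm_num)
    have n2 := ne 2 (by norm_num) (by norm_num)
    have n3 := ne 3 (by norm_num) (by norm_num)
    have n4 := ne 4 (by norm_num) (by norm_num)
    have n5 := ne 5 (by norm_num) (by norm_num)
    have n6 := ne 6 (by norm_num) (by norm_num)
    have n7 := ne 7 (by norm_num) (by norm_num)
    have n8 := ne 8 (by norm_num) (by norm_num)
    have n9 := ne 9 (by norm_num) (by norm_num)
    have n10 := ne 10 (by norm_num) (by norm_num)
    push_cast at n1 n2 n3 n4 n5 n6 n7 n8 n9 n10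
    by_cases hh : 2 * d = 1
    · have := coeff_unique hχ hp (expo d) (coef κ η C) hE 0
        (by intro j hj; fin_cases j <;> simp [expo] at hj ⊢ <;> grind)
      simp [coef] at this
    by_cases hA : d ∈ ({1, 2, 3} : Set (ZMod p)) ∨ 2 * d = 3
    · have := coeff_unique hχ hp (expo d) (coef κ η C) hE 11
        (by intro j hj; fin_cases j <;> simp [expo] at hj ⊢ <;> grind)
      simp [coef, hηκ, hκ0] at this
    have := coeff_unique hχ hp (expo d) (coef κ η C) hE 8
      (by intro j hj; fin_cases j <;> simp [expo] at hj ⊢ <;> grind)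
    simp [coef] at this

/-- the three families of triangles force `g = 1` away from zero -/
theorem g_one (hχ : χ 1 ≠ 1) (hp : (p : K) ≠ 0) (hp5 : 5 ≤ p) {k : ZMod p} (hk : k ≠ 0)
    (g : ZMod p → ZMod p) (hg : ∀ L, L ≠ 0 → g L ≠ 0) (hM : ∀ m, Good χ g m (-m) (2 * k))
    (hT : ∀ X, Good χ g X (k - X) k) (hS : Good χ g (-(2⁻¹ * k)) (2⁻¹ * k) k) :
    ∀ L, L ≠ 0 → g L = 1 := by
  have e2 : (2 : ZMod p) ≠ 0 := by
    simpa using natCast_ne_zero (p := p) (n := 2) (by norm_num) (by omega)
  have hh : (2 : ZMod p) * 2⁻¹ = 1 := mul_inv_cancel₀ e2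
  have aff := affine hp5 (fun j => g (j * k))
    (fun j hj => by
      have h := (hT (j * k)).1
      rw [show k - j * k = (1 - j) * k by ring] at h
      apply mul_left_cancel₀ hk
      simp only [one_mul]
      linear_combination h)
    (fun j hj => by
      have h := (hM (j * k)).1
      rw [show -(j * k) = (-j) * k by ring] at h
      apply mul_left_cancel₀ hk
      linear_combination h)
    (by
      have h := hS.1
      rw [show -(2⁻¹ * k) = (-2⁻¹) * k by ring] at h
      apply mul_left_cancel₀ hk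
      simp only [one_mul]
      linear_combination (2 : ZMod p) * h +
        (k * (g ((-2⁻¹) * k) + g (2⁻¹ * k)) - 2 * k * g k) * hh)
  set α := 2 * g (1 * k) - g (2 * k) with hα
  set β := g (2 * k) - g (1 * k) with hβ
  have hgg : ∀ L, L ≠ 0 → g L = α + β / k * L := fun L hL => by
    have h := aff (L / k) (div_ne_zero hL hk)
    rw [div_mul_cancel₀ _ hk] at h
    rw [h]
    ring
  intro L hL
  by_cases hb : β = 0
  · have hα0 : α ≠ 0 := by
      intro h0
      exact hg L hL (by rw [hgg L hL, h0, hb]; ring)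
    have hgc : ∀ x, x ≠ 0 → g x = α := fun x hx => by rw [hgg x hx, hb]; ring
    have := const_case hχ hp hp5 hk hα0 (fun m => by
      refine good_congr χ (g := g) (g' := fun _ => α) hgc ?_ (hM m)
      by_cases hm : m = 0
      · exact Or.inr (Or.inl (by simp [hm]))
      · exact Or.inl ⟨hm, neg_ne_zero.2 hm, mul_ne_zero e2 hk⟩)
    rw [hgc L hL, this]
  · by_cases ha : α = 0
    · exfalso
      have hgl : ∀ x, x ≠ 0 → g x = β / k * x := fun x hx => by rw [hgg x hx, ha, zero_add]
      refine linear_case hχ hp hp5 hk (β := β / k) (div_ne_zero hb hk) ?_ ?_ ?_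
      · intro m
        refine good_congr χ (g := g) (g' := fun x => β / k * x) hgl ?_ (hM m)
        by_cases hm : m = 0
        · exact Or.inr (Or.inl (by simp [hm]))
        · exact Or.inl ⟨hm, neg_ne_zero.2 hm, mul_ne_zero e2 hk⟩
      · intro X
        refine good_congr χ (g := g) (g' := fun x => β / k * x) hgl ?_ (hT X)
        by_cases hX : X = 0
        · exact Or.inr (Or.inr (Or.inl (by simp [hX])))
        by_cases hX' : X = k
        · exact Or.inr (Or.inr (Or.inr hX'.symm))
        · exact Or.inl ⟨hX, sub_ne_zero.2 (Ne.symm hX'), hk⟩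
      · refine good_congr χ (g := g) (g' := fun x => β / k * x) hgl ?_ hS
        exact Or.inl ⟨neg_ne_zero.2 (mul_ne_zero (inv_ne_zero e2) hk), mul_ne_zero (inv_ne_zero e2) hk, hk⟩
    · exfalso
      have h0 : -α * k / β ≠ 0 := div_ne_zero (mul_ne_zero (neg_ne_zero.2 ha) hk) hb
      apply hg _ h0
      rw [hgg _ h0]
      field_simp
      ring

end Cfsg.Agent.Lib.AppendixC.Algebra
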