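import Cfsg.Agent.Lib.AppendixC.Algebra

/-!
Bender-Glauberman Appendix C: the combinatorial configuration. `e A x` is the element `x` of the
elementary abelian group `P` conjugated by the `A`-th power of a fixed element normalizing `U`,
`τ A` is the automorphism of the norm-one group induced by that power. We show that
`a = 1` is the only element with `a` and `2 - a` of norm one.
-/

namespace Cfsg.Agent.Lib.AppendixC.Config

open _root_.Cfsg.Agent.Lib.AppendixC.Algebra (TriEq Good)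

/-- The data of the final configuration. `algebraMap` is the inclusion of the prime field. -/
structure Conf (p : ℕ) [Fact p.Prime] (N : ℕ) (F : Type*) [Field F] [_root_.Algebra (ZMod p) F]
    (K : Type*) [Field K] (G : Type*) [Group G] where
  χ : AddChar (ZMod p) K
  hχ : χ 1 ≠ 1
  hpK : (p : K) ≠ 0
  five : 5 ≤ p
  e : ZMod p → F → G
  e_add : ∀ A x y, e A (x + y) = e A x * e A y
  τ : ZMod p → F → F
  τ_zero : ∀ u, u ^ N = 1 → τ 0 u = u
  τ_add : ∀ A B u, u ^ N = 1 → τ A (τ B u) = τ (A + B) u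
  τ_mul : ∀ A u v, u ^ N = 1 → v ^ N = 1 → τ A (u * v) = τ A u * τ A v
  τ_mem : ∀ A u, u ^ N = 1 → τ A u ^ N = 1
  conj : ∀ u, u ^ N = 1 → ∃ g : G, ∀ A x, g * e A x * g⁻¹ = e A (τ A u * x)
  uniq : ∀ A B x y, A ≠ B → e A x = e B y → x = 0
  canon : ∀ A B C : ZMod p, e A (algebraMap _ F (C - B)) * e B (algebraMap _ F (A - C)) *
    e C (algebraMap _ F (B - A)) = 1
  tri : ∀ A B C n m r : ZMod p, e A (algebraMap _ F n) * e B (algebraMap _ F m) *
    e C (algebraMap _ F r) = 1 → TriEq χ A B C n m r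
  neg_one : (-1 : F) ^ N = -1
  scal_one : ∀ r : ZMod p, algebraMap (ZMod p) F r ^ N = 1 → r = 1
  decomp : ∀ x : F, x ≠ 0 → ∃ r v, r ≠ 0 ∧ v ^ N = 1 ∧ x = algebraMap (ZMod p) F r * v
  fixed : ∀ x : F, x ^ p = x → ∃ r : ZMod p, algebraMap (ZMod p) F r = x
  line : ∀ c x : F, (∀ k : ZMod p, (c + algebraMap _ F k * x) ^ N = c ^ N) → x = 0

variable {p : ℕ} [Fact p.Prime] {N : ℕ} {F : Type*} [Field F] [_root_.Algebra (ZMod p) F]
  {K : Type*} [Field K] {G : Type*} [Group G]

local notation "ι" => algebraMap (ZMod p) F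

namespace Conf

variable (c : Conf p N F K G)
include c

theorem e_zero (A : ZMod p) : c.e A 0 = 1 := by
  have := c.e_add A 0 0
  rw [add_zero] at this
  exact left_eq_mul.1 this

theorem e_neg (A : ZMod p) (x : F) : c.e A (-x) = (c.e A x)⁻¹ := by
  rw [eq_inv_iff_mul_eq_one, ← c.e_add, neg_add_cancel, c.e_zero]

theorem e_inj (A : ZMod p) {x : F} (h : c.e A x = 1) : x = 0 :=
  c.uniq A (A + 1) x 0 (by simp) (h.trans (c.e_zero _).symm)

theorem rotate {A B C : ZMod p} {a b d : F} (h : c.e A a * c.e B b * c.e C d = 1) :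
    c.e B b * c.e C d * c.e A a = 1 := by
  rw [mul_assoc] at h
  exact mul_eq_one_comm.1 h

theorem rev {A B C : ZMod p} {a b d : F} (h : c.e A a * c.e B b * c.e C d = 1) :
    c.e C (-d) * c.e B (-b) * c.e A (-a) = 1 := by
  rw [c.e_neg, c.e_neg, c.e_neg, ← mul_inv_rev, ← mul_inv_rev, ← mul_assoc, h, inv_one]

theorem glue {A B C D : ZMod p} {x1 x2 x3 a1 b1 b2 c2 c3 a3 : F}
    (h1 : c.e D x1 * c.e A a1 * c.e B b1 = 1) (h2 : c.e D x2 * c.e B b2 * c.e C c2 = 1)
    (h3 : c.e D x3 * c.e C c3 * c.e A a3 = 1) (hx : x1 + x2 + x3 = 0)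
    {a b d : F} (ha : a = a1 + a3) (hb : b = b1 + b2) (hd : d = c2 + c3) :
    c.e A a * c.e B b * c.e C d = 1 := by
  have k1 : c.e A a1 * c.e B b1 = (c.e D x1)⁻¹ := eq_inv_of_mul_eq_one_right (by rwa [← mul_assoc])
  have k2 : c.e B b2 * c.e C c2 = (c.e D x2)⁻¹ := eq_inv_of_mul_eq_one_right (by rwa [← mul_assoc])
  have k3 : c.e C c3 * c.e A a3 = (c.e D x3)⁻¹ := eq_inv_of_mul_eq_one_right (by rwa [← mul_assoc])
  rw [ha, hb, hd, add_comm a1 a3, c.e_add, c.e_add, c.e_add]
  calc c.e A a3 * c.e A a1 * (c.e B b1 * c.e B b2) * (c.e C c2 * c.e C c3)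
      = c.e A a3 * (c.e A a1 * c.e B b1) * (c.e B b2 * c.e C c2) * c.e C c3 := by group
    _ = c.e A a3 * c.e D x3 * c.e C c3 := by
      rw [k1, k2, show x3 = -x1 + -x2 by linear_combination hx, c.e_add, c.e_neg, c.e_neg]
      group
    _ = 1 := by
      rw [← inv_inv (c.e D x3), ← k3]
      group

theorem conj_tri {u : F} (hu : u ^ N = 1) {A B C : ZMod p} {a b d : F}
    (h : c.e A a * c.e B b * c.e C d = 1) :
    c.e A (c.τ A u * a) * c.e B (c.τ B u * b) * c.e C (c.τ C u * d) = 1 := by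
  obtain ⟨g, hg⟩ := c.conj u hu
  rw [← hg, ← hg, ← hg]
  calc g * c.e A a * g⁻¹ * (g * c.e B b * g⁻¹) * (g * c.e C d * g⁻¹)
      = g * (c.e A a * c.e B b * c.e C d) * g⁻¹ := by group
    _ = 1 := by rw [h]; group

theorem mono {u : F} (hu : u ^ N = 1) (A B C : ZMod p) :
    c.e A (c.τ A u * ι (C - B)) * c.e B (c.τ B u * ι (A - C)) * c.e C (c.τ C u * ι (B - A)) = 1 :=
  c.conj_tri hu (c.canon A B C)

theorem u_ne {u : F} (hu : u ^ N = 1) : u ≠ 0 := by
  rintro rfl
  rcases Nat.eq_zero_or_pos N with h | h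
  · subst h
    have h1 := c.neg_one
    rw [pow_zero] at h1
    have h2 : (2 : ZMod p) = 0 := by
      apply (algebraMap (ZMod p) F).injective
      rw [map_ofNat, map_zero]
      linear_combination h1
    have := Algebra.natCast_ne_zero (p := p) (n := 2) (by norm_num) (by have := c.five; omega)
    exact this (by exact_mod_cast h2)
  · simp [zero_pow h.ne'] at hu

theorem two_ne : (2 : F) ≠ 0 := by
  intro h
  have h2 : (2 : ZMod p) = 0 := by
    apply (algebraMap (ZMod p) F).injective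
    rw [map_ofNat, map_zero, h]
  have := Algebra.natCast_ne_zero (p := p) (n := 2) (by norm_num) (by have := c.five; omega)
  exact this (by exact_mod_cast h2)

theorem two_ne' : (2 : ZMod p) ≠ 0 := by
  have := Algebra.natCast_ne_zero (p := p) (n := 2) (by norm_num) (by have := c.five; omega)
  exact_mod_cast this

theorem τ_one (A : ZMod p) : c.τ A 1 = 1 := by
  have h := c.τ_mul A 1 1 (one_pow _) (one_pow _)
  rw [one_mul] at h
  exact (left_eq_mul₀ (c.u_ne (c.τ_mem A 1 (one_pow _)))).1 h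

theorem τ_pow (A : ZMod p) {u : F} (hu : u ^ N = 1) (n : ℕ) : c.τ A (u ^ n) = c.τ A u ^ n := by
  induction n with
  | zero => simp [c.τ_one]
  | succ n ih =>
    rw [pow_succ, pow_succ, c.τ_mul A _ _ (by rw [← pow_mul, mul_comm, pow_mul, hu, one_pow]) hu, ih]

omit c in
theorem frob_sub (x y : F) : (x - y) ^ p = x ^ p - y ^ p := by
  haveI : CharP F p := charP_of_injective_algebraMap (algebraMap (ZMod p) F).injective p
  exact sub_pow_char x y

omit c in
theorem frob_add (x y : F) : (x + y) ^ p = x ^ p + y ^ p := by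
  haveI : CharP F p := charP_of_injective_algebraMap (algebraMap (ZMod p) F).injective p
  exact add_pow_char x y p

omit c in
theorem frob_scal (r : ZMod p) : ι r ^ p = ι r := by rw [← map_pow, ZMod.pow_card]

omit c in
theorem frob_two : (2 : F) ^ p = 2 := by
  have := frob_scal (F := F) (2 : ZMod p)
  rwa [map_ofNat] at this

theorem scal_unique {r r' : ZMod p} {v v' : F} (hv : v ^ N = 1) (hv' : v' ^ N = 1) (hr : r ≠ 0)
    (h : ι r * v = ι r' * v') : r = r' := by
  have : ι (r' / r) ^ N = 1 := by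
    have hr0 : ι r ≠ 0 := (map_ne_zero _).2 hr
    have e : ι (r' / r) = v / v' := by
      rw [map_div₀, div_eq_div_iff hr0 (c.u_ne hv')]
      linear_combination -h
    rw [e, div_pow, hv, hv', div_one]
  exact ((div_eq_one_iff_eq hr).1 (c.scal_one _ this)).symm

theorem scalar {A B C : ZMod p} (hAB : A ≠ B) (hBC : B ≠ C) (hAC : A ≠ C) {v : F} (hv : v ^ N = 1)
    {r : ZMod p} (hr : r ≠ 0) {x y z : F} (hx : x = ι r * c.τ A v)
    (h : c.e A x * c.e B y * c.e C z = 1)
    (h' : c.e A (x ^ p) * c.e B (y ^ p) * c.e C (z ^ p) = 1) :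
    ∃ n m, n ≠ 0 ∧ m ≠ 0 ∧ y = ι n * c.τ B v ∧ z = ι m * c.τ C v := by
  have hp0 : p ≠ 0 := (Fact.out : p.Prime).ne_zero
  have hvp : (v ^ (p - 1)) ^ N = 1 := by rw [← pow_mul, mul_comm, pow_mul, hv, one_pow]
  have k := c.conj_tri hvp h
  rw [c.τ_pow A hv, c.τ_pow B hv, c.τ_pow C hv,
    show c.τ A v ^ (p - 1) * x = x ^ p by
      rw [hx, mul_pow, frob_scal, mul_left_comm, pow_sub_one_mul hp0]] at k
  rw [mul_assoc] at k h'
  have eq := mul_left_cancel (k.trans h'.symm)
  have e2 : c.e B (-(y ^ p) + c.τ B v ^ (p - 1) * y) = c.e C (z ^ p + -(c.τ C v ^ (p - 1) * z)) := by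
    rw [c.e_add, c.e_add, c.e_neg, c.e_neg, eq_mul_inv_iff_mul_eq, mul_assoc, eq, inv_mul_cancel_left]
  have y0 := c.uniq B C _ _ hBC e2
  have z0 := c.uniq C B _ _ (Ne.symm hBC) e2.symm
  obtain ⟨n, hn⟩ := c.fixed (y / c.τ B v) (by
    have hb := c.u_ne (c.τ_mem B v hv)
    rw [div_pow, div_eq_div_iff (pow_ne_zero _ hb) hb, show y ^ p = c.τ B v ^ (p - 1) * y by
      linear_combination -y0]
    rw [← pow_sub_one_mul hp0 (c.τ B v)]; ring)
  obtain ⟨m, hm⟩ := c.fixed (z / c.τ C v) (by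
    have hb := c.u_ne (c.τ_mem C v hv)
    rw [div_pow, div_eq_div_iff (pow_ne_zero _ hb) hb, show z ^ p = c.τ C v ^ (p - 1) * z by
      linear_combination z0]
    rw [← pow_sub_one_mul hp0 (c.τ C v)]; ring)
  rw [eq_div_iff (c.u_ne (c.τ_mem B v hv))] at hn
  rw [eq_div_iff (c.u_ne (c.τ_mem C v hv))] at hm
  have hx0 : x ≠ 0 := by
    rw [hx]; exact mul_ne_zero ((map_ne_zero _).2 hr) (c.u_ne (c.τ_mem A v hv))
  refine ⟨n, m, fun h0 => hx0 ?_, fun h0 => hx0 ?_, hn.symm, hm.symm⟩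
  · rw [h0, map_zero, zero_mul] at hn
    rw [← hn, c.e_zero, mul_one, mul_eq_one_iff_eq_inv, ← c.e_neg] at h
    exact c.uniq A C _ _ hAC h
  · rw [h0, map_zero, zero_mul] at hm
    rw [← hm, c.e_zero, mul_one, mul_eq_one_iff_eq_inv, ← c.e_neg] at h
    exact c.uniq A B _ _ hAB h

/-- a pair of norm-one elements with sum two -/
def Pair (_c : Conf p N F K G) (a b : F) : Prop := a ^ N = 1 ∧ b ^ N = 1 ∧ a + b = 2

/-- the defect at level `L` -/
def dfct (a b : F) (L : ZMod p) : F := (c.τ L a + c.τ L b) / 2 - 1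

/-- the weight of parameter `l` at level `L` -/
def w (a b : F) (l L : ZMod p) : F := 1 + ι l * (c.dfct a b L / ι L)

/-- the weighted triangle -/
def Tri (a b : F) (l A B C : ZMod p) : Prop :=
  c.e A (ι (C - B) * c.w a b l A) * c.e B (ι (A - C) * c.w a b l B) *
    c.e C (ι (B - A) * c.w a b l C) = 1

variable {a b : F}

omit c in
theorem Pair.symm {c : Conf p N F K G} (h : c.Pair a b) : c.Pair b a :=
  ⟨h.2.1, h.1, by rw [add_comm]; exact h.2.2⟩

theorem dfct_mul (h : c.Pair a b) (L : ZMod p) :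
    ι L * (c.dfct a b L / ι L) = c.dfct a b L := by
  by_cases hL : L = 0
  · subst hL
    rw [map_zero, zero_mul, dfct, c.τ_zero a h.1, c.τ_zero b h.2.1, h.2.2, div_self c.two_ne, sub_self]
  · exact mul_div_cancel₀ _ ((map_ne_zero _).2 hL)

theorem dfct_two (a b : F) (L : ZMod p) : c.τ L a + c.τ L b = 2 * c.dfct a b L + 2 := by
  rw [dfct, mul_sub, mul_div_cancel₀ _ c.two_ne]; ring

theorem out (h : c.Pair a b) (Q l : ZMod p) :
    c.e (Q - l) (ι (Q + l) - ι Q * c.τ (Q - l) a) *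
      c.e Q (ι (Q - l) * c.τ Q a - ι (Q + l) * c.τ Q b) *
      c.e (Q + l) (ι Q * c.τ (Q + l) b - ι (Q - l)) = 1 := by
  refine c.glue (D := 0) (c.mono h.1 0 (Q - l) Q) (c.mono h.2.1 0 Q (Q + l))
    (c.canon 0 (Q + l) (Q - l)) ?_ ?_ ?_ ?_
  · rw [c.τ_zero a h.1, c.τ_zero b h.2.1]
    simp only [map_sub, map_add, map_zero]
    linear_combination ι l * h.2.2
  all_goals simp only [map_sub, map_add, map_zero]; ring

theorem tri_rot {l A B C : ZMod p} (h : c.Tri a b l A B C) : c.Tri a b l B C A := c.rotate h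

theorem tri_rev {l A B C : ZMod p} (h : c.Tri a b l A B C) : c.Tri a b l C B A := by
  have := c.rev h
  unfold Tri
  simp only [← neg_mul, ← map_neg, neg_sub] at this
  exact this

theorem tri_degen (l : ZMod p) {A B C : ZMod p} (h : A = B ∨ B = C ∨ C = A) :
    c.Tri a b l A B C := by
  unfold Tri
  rcases h with h | h | h <;> subst h <;>
    simp only [sub_self, map_zero, zero_mul, c.e_zero, mul_one, one_mul, ← c.e_add, ← add_mul,
      ← map_add, sub_add_sub_cancel]

theorem tri_canon (A B C : ZMod p) : c.Tri a b 0 A B C := by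
  unfold Tri w
  simp only [map_zero, zero_mul, add_zero, mul_one]
  exact c.canon A B C

theorem tri_T (h : c.Pair a b) (k X : ZMod p) : c.Tri a b k X (k - X) k := by
  have h2 := c.two_ne'
  obtain ⟨Y, hY⟩ : ∃ Y : ZMod p, k = Y + Y := ⟨k / 2, by rw [← two_mul, mul_div_cancel₀ _ h2]⟩
  subst hY
  have f1 := c.rotate (c.out h Y (X - Y))
  rw [add_sub_cancel Y X, show Y - (X - Y) = Y + Y - X by ring] at f1
  refine c.glue (D := Y) f1 (c.mono h.2.1 Y (Y + Y - X) (Y + Y)) (c.mono h.1 Y (Y + Y) X) ?_ ?_ ?_ ?_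
  · simp only [map_sub, map_add]; ring
  · have e := c.dfct_mul h X
    have s := c.dfct_two a b X
    simp only [w, map_sub, map_add] at *
    linear_combination (2 * ι Y) * e - ι Y * s
  · have e := c.dfct_mul h (Y + Y - X)
    have s := c.dfct_two a b (Y + Y - X)
    simp only [w, map_sub, map_add] at *
    linear_combination (-2 * ι Y) * e + ι Y * s
  · have e := c.dfct_mul h (Y + Y)
    have s := c.dfct_two a b (Y + Y)
    simp only [w, map_sub, map_add] at *
    linear_combination (2 * (ι Y - ι X)) * e - (ι Y - ι X) * s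

theorem tri_M (h : c.Pair a b) (l m : ZMod p) : c.Tri a b l (2 * l) m (-m) := by
  have h2 := c.two_ne'
  by_cases hm : m = 0
  · exact c.tri_degen l (Or.inr (Or.inl (by simp [hm])))
  suffices H : ∀ n : ℕ, ∀ l m : ZMod p, 2 * l = n * m → c.Tri a b l (2 * l) m (-m) by
    refine H (2 * l / m).val l m ?_
    rw [ZMod.natCast_zmod_val, div_mul_cancel₀ _ hm]
  intro n
  induction n with
  | zero =>
    intro l m hl
    rw [Nat.cast_zero, zero_mul] at hl
    obtain rfl := (mul_eq_zero.1 hl).resolve_left h2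
    exact c.tri_canon _ _ _
  | succ n ih =>
    intro l m hl
    push_cast at hl
    obtain ⟨μ, hμ⟩ : ∃ μ : ZMod p, m - 2 * l = 2 * μ :=
      ⟨(m - 2 * l) / 2, by rw [mul_div_cancel₀ _ h2]⟩
    have i1 := ih μ (-m) (by linear_combination -hμ - hl)
    rw [neg_neg] at i1
    have f2 := c.tri_rot (c.tri_rot (c.tri_rev i1))
    have f1 := c.tri_T h m (2 * μ)
    rw [show m - 2 * μ = 2 * l by linear_combination hμ] at f1
    have hm2 : ι m = 2 * ι μ + 2 * ι l := by
      have := congrArg ι hμ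
      simp only [map_sub, map_mul, map_ofNat] at this
      linear_combination this
    refine c.glue (D := 2 * μ) f1 f2 (c.canon (2 * μ) (-m) (2 * l)) ?_ ?_ ?_ ?_
    all_goals simp only [w, map_sub, map_add, map_mul, map_neg, map_ofNat, hm2]
    · ring
    · ring
    · ring
    · ring

theorem tri_S (h : c.Pair a b) (t : ZMod p) : c.Tri a b (t + t) (-t) t (t + t) := by
  have f1 := c.rotate (c.rotate (c.out h.symm t (t + t)))
  have f2 := c.rotate (c.rotate (c.out h.symm (t + t) t))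
  rw [show t - (t + t) = -t by ring, show t + (t + t) = t + t + t by ring] at f1
  rw [show t + t - t = t by ring] at f2
  refine c.glue (D := t + t + t) f1 f2 (c.mono h.1 (t + t + t) (t + t) (-t)) ?_ ?_ ?_ ?_
  · simp only [map_sub, map_add, map_neg]; ring
  · have e := c.dfct_mul h (-t)
    have s := c.dfct_two a b (-t)
    simp only [w, map_sub, map_add, map_neg] at *
    linear_combination (-2 * ι t) * e + ι t * s
  · have e := c.dfct_mul h t
    have s := c.dfct_two a b t
    simp only [w, map_sub, map_add, map_neg] at *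
    linear_combination (-6 * ι t) * e + (3 * ι t) * s
  · have e := c.dfct_mul h (t + t)
    have s := c.dfct_two a b (t + t)
    simp only [w, map_sub, map_add, map_neg] at *
    linear_combination (2 * ι t) * e - ι t * s

theorem Pair.frob (h : c.Pair a b) : c.Pair (a ^ p) (b ^ p) :=
  ⟨by rw [← pow_mul, mul_comm, pow_mul, h.1, one_pow],
    by rw [← pow_mul, mul_comm, pow_mul, h.2.1, one_pow],
    by rw [← frob_add, h.2.2, frob_two]⟩

theorem w_frob (h : c.Pair a b) (l L : ZMod p) : c.w (a ^ p) (b ^ p) l L = c.w a b l L ^ p := by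
  simp only [w, dfct, c.τ_pow _ h.1, c.τ_pow _ h.2.1]
  rw [frob_add, mul_pow, div_pow _ (ι L), frob_sub, div_pow, frob_add, frob_scal, frob_scal,
    frob_two, one_pow]

theorem tri_scalar (h : c.Pair a b) {l A B C : ZMod p} (hAB : A ≠ B) (hBC : B ≠ C) (hAC : A ≠ C)
    (t : c.Tri a b l A B C) (t' : c.Tri (a ^ p) (b ^ p) l A B C) {v : F} (hv : v ^ N = 1)
    {r : ZMod p} (hr : r ≠ 0) (hA : c.w a b l A = ι r * c.τ A v) :
    (∃ n, n ≠ 0 ∧ c.w a b l B = ι n * c.τ B v) ∧ ∃ m, m ≠ 0 ∧ c.w a b l C = ι m * c.τ C v := by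
  have d1 : C - B ≠ 0 := sub_ne_zero.2 (Ne.symm hBC)
  have d2 : A - C ≠ 0 := sub_ne_zero.2 hAC
  have d3 : B - A ≠ 0 := sub_ne_zero.2 (Ne.symm hAB)
  unfold Tri at t t'
  simp only [c.w_frob h] at t'
  rw [← frob_scal (F := F) (C - B), ← frob_scal (F := F) (A - C), ← frob_scal (F := F) (B - A),
    ← mul_pow, ← mul_pow, ← mul_pow] at t'
  obtain ⟨n, m, hn, hm, en, em⟩ := c.scalar hAB hBC hAC hv (r := (C - B) * r) (mul_ne_zero d1 hr)
    (by rw [hA, map_mul, mul_assoc]) t t'
  refine ⟨⟨n / (A - C), div_ne_zero hn d2, ?_⟩, m / (B - A), div_ne_zero hm d3, ?_⟩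
  · rw [map_div₀, div_mul_eq_mul_div, ← en, mul_div_cancel_left₀ _ ((map_ne_zero _).2 d2)]
  · rw [map_div₀, div_mul_eq_mul_div, ← em, mul_div_cancel_left₀ _ ((map_ne_zero _).2 d3)]

theorem w_proportional (h : c.Pair a b) {k : ZMod p} (hk : k ≠ 0) :
    ∃ v, v ^ N = 1 ∧ ∃ g : ZMod p → ZMod p,
      ∀ L, L ≠ 0 → g L ≠ 0 ∧ c.w a b k L = ι (g L) * c.τ L v := by
  have h2 := c.two_ne'
  have h3 : (3 : ZMod p) ≠ 0 := by
    have := Algebra.natCast_ne_zero (p := p) (n := 3) (by norm_num) (by have := c.five; omega)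
    exact_mod_cast this
  have hwk : c.w a b k k ≠ 0 := by
    rw [w, c.dfct_mul h, dfct, add_sub_cancel, div_ne_zero_iff]
    refine ⟨fun h0 => ?_, c.two_ne⟩
    have ha := c.τ_mem k a h.1
    rw [eq_neg_of_add_eq_zero_left h0, neg_pow, c.neg_one, c.τ_mem k b h.2.1, mul_one] at ha
    exact c.two_ne (by linear_combination -ha)
  obtain ⟨r, v0, hr, hv0, hw⟩ := c.decomp _ hwk
  have hv := c.τ_mem (-k) v0 hv0
  have hkv : c.w a b k k = ι r * c.τ k (c.τ (-k) v0) := by
    rw [c.τ_add _ _ _ hv0, add_neg_cancel, c.τ_zero _ hv0, hw]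
  refine ⟨c.τ (-k) v0, hv, ?_⟩
  have key : ∀ L, L ≠ 0 → ∃ n, n ≠ 0 ∧ c.w a b k L = ι n * c.τ L (c.τ (-k) v0) := by
    intro L hL
    by_cases hLk : L = k
    · subst hLk; exact ⟨r, hr, hkv⟩
    by_cases hL2 : L + L = k
    · have := c.tri_S h L
      rw [hL2] at this
      have t' := c.tri_S h.frob L
      rw [hL2] at t'
      obtain ⟨-, m, hm, em⟩ := c.tri_scalar h (A := k) (B := -L) (C := L)
        (fun e => hL (mul_left_cancel₀ h3 (by linear_combination e + hL2)))
        (fun e => hL (mul_left_cancel₀ h2 (by linear_combination -e)))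
        (Ne.symm hLk) (c.tri_rot (c.tri_rot this)) (c.tri_rot (c.tri_rot t')) hv hr hkv
      exact ⟨m, hm, em⟩
    · obtain ⟨⟨n, hn, en⟩, -⟩ := c.tri_scalar h (A := k) (B := L) (C := k - L) (Ne.symm hLk)
        (fun e => hL2 (by linear_combination e))
        (fun e => hL (by linear_combination e))
        (c.tri_rot (c.tri_rot (c.tri_T h k L))) (c.tri_rot (c.tri_rot (c.tri_T h.frob k L))) hv hr hkv
      exact ⟨n, hn, en⟩
  classical
  refine ⟨fun L => if hL : L ≠ 0 then (key L hL).choose else 0, fun L hL => ?_⟩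
  simp only [dif_pos hL]
  exact (key L hL).choose_spec

theorem unscale {v : F} (hv : v ^ N = 1) {A B C n m r : ZMod p}
    (h : c.e A (ι n * c.τ A v) * c.e B (ι m * c.τ B v) * c.e C (ι r * c.τ C v) = 1) :
    TriEq c.χ A B C n m r := by
  have hv' : v⁻¹ ^ N = 1 := by rw [inv_pow, hv, inv_one]
  have := c.conj_tri hv' h
  have key : ∀ (L x : ZMod p), c.τ L v⁻¹ * (ι x * c.τ L v) = ι x := fun L x => by
    rw [mul_left_comm, ← c.τ_mul L _ _ hv' hv, inv_mul_cancel₀ (c.u_ne hv), c.τ_one, mul_one]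
  rw [key, key, key] at this
  exact c.tri _ _ _ _ _ _ this

theorem dfct_eq_zero (h : c.Pair a b) (L : ZMod p) : c.dfct a b L = 0 := by
  by_cases hL : L = 0
  · rw [← c.dfct_mul h, hL, map_zero, zero_mul]
  apply c.line (ι L)
  intro k
  by_cases hk : k = 0
  · simp [hk]
  obtain ⟨v, hv, g, hg⟩ := c.w_proportional h hk
  have good : ∀ A B C, (A ≠ 0 ∧ B ≠ 0 ∧ C ≠ 0) ∨ (A = B ∨ B = C ∨ C = A) → c.Tri a b k A B C →
      Good c.χ g A B C := by
    rintro A B C (⟨hA, hB, hC⟩ | hd) ht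
    · unfold Tri at ht
      rw [(hg A hA).2, (hg B hB).2, (hg C hC).2, ← mul_assoc, ← mul_assoc, ← mul_assoc,
        ← map_mul, ← map_mul, ← map_mul] at ht
      exact c.unscale hv ht
    · exact Algebra.good_of_degenerate _ _ hd
  have g1 := Algebra.g_one c.hχ c.hpK c.five hk g (fun x hx => (hg x hx).1)
    (fun m => good _ _ _ (by
      by_cases hm : m = 0
      · exact Or.inr (Or.inl (by simp [hm]))
      · exact Or.inl ⟨hm, neg_ne_zero.2 hm, mul_ne_zero c.two_ne' hk⟩) (c.tri_rot (c.tri_M h k m)))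
    (fun X => good _ _ _ (by
      by_cases hX : X = 0
      · exact Or.inr (Or.inr (Or.inl (by simp [hX])))
      by_cases hX' : X = k
      · exact Or.inr (Or.inr (Or.inr hX'.symm))
      · exact Or.inl ⟨hX, sub_ne_zero.2 (Ne.symm hX'), hk⟩) (c.tri_T h k X))
    (good _ _ _ (Or.inl ⟨neg_ne_zero.2 (mul_ne_zero (inv_ne_zero c.two_ne') hk),
      mul_ne_zero (inv_ne_zero c.two_ne') hk, hk⟩) (by
      have := c.tri_S h (2⁻¹ * k)
      rwa [show 2⁻¹ * k + 2⁻¹ * k = k by
        rw [← two_mul, ← mul_assoc, mul_inv_cancel₀ c.two_ne', one_mul]] at this))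
  have e : ι L + ι k * c.dfct a b L = ι L * c.w a b k L := by
    rw [w, mul_add, mul_one, mul_left_comm, c.dfct_mul h]
  rw [e, (hg L hL).2, g1 L hL, map_one, one_mul, mul_pow, c.τ_mem L v hv, mul_one]

theorem pair_shift (h : c.Pair a b) (L : ZMod p) : c.Pair (c.τ L a) (c.τ L b) :=
  ⟨c.τ_mem L a h.1, c.τ_mem L b h.2.1, by rw [c.dfct_two, c.dfct_eq_zero h, mul_zero, zero_add]⟩

theorem out_one (h : c.Pair a b) :
    c.e 1 (2 * c.τ 1 a - 1) * c.e 2 (-2 * (2 * c.τ 2 a - 1)) * c.e 3 (2 * c.τ 3 a - 1) = 1 := by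
  have := c.out h.symm 2 1
  rw [show (2 : ZMod p) - 1 = 1 by norm_num, show (2 : ZMod p) + 1 = 3 by norm_num] at this
  simp only [map_ofNat, map_one] at this
  have hb : ∀ L, c.τ L b = 2 - c.τ L a := fun L => by linear_combination (c.pair_shift h L).2.2
  rw [hb, hb] at this
  convert this using 3 <;> (congr 1; ring)

theorem norm_two_sub_one (h : c.Pair a b) : (2 * a - 1) ^ N = 1 := by
  set z : ZMod p → F := fun i => 2 * c.τ i a - 1 with hz
  have zne : ∀ i, z i ≠ 0 := by
    intro i h0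
    have hi := c.τ_mem i a h.1
    have e : c.τ i a = ι 2⁻¹ := by
      rw [map_inv₀, map_ofNat]
      apply eq_inv_of_mul_eq_one_right
      linear_combination h0
    rw [e] at hi
    have h1 := c.scal_one _ hi
    rw [inv_eq_one] at h1
    exact one_ne_zero (show (1 : ZMod p) = 0 by linear_combination h1)
  choose ν u hν hu hzν using fun i => c.decomp _ (zne i)
  have step : ∀ i, TriEq c.χ 1 2 3 (ν (1 + i)) (-2 * ν (2 + i)) (ν (3 + i)) := by
    intro i
    have hs := c.pair_shift h i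
    have hh := c.out_one hs
    have hh' := c.out_one hs.frob
    simp only [c.τ_pow _ hs.1] at hh'
    simp only [c.τ_add _ _ _ h.1] at hh hh'
    have f : ∀ x : F, 2 * x ^ p - 1 = (2 * x - 1) ^ p := fun x => by
      rw [frob_sub, mul_pow, frob_two, one_pow]
    have f2 : ((-2 : F)) ^ p = -2 := by
      have := frob_sub (p := p) (0 : F) 2
      rwa [zero_pow (Fact.out : p.Prime).ne_zero, frob_two, zero_sub] at this
    rw [f, f, f, ← f2, ← mul_pow] at hh'
    have hv := c.τ_mem (-1) _ (hu (1 + i))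
    have hA : z (1 + i) = ι (ν (1 + i)) * c.τ 1 (c.τ (-1) (u (1 + i))) := by
      rw [c.τ_add _ _ _ (hu _), add_neg_cancel, c.τ_zero _ (hu _), ← hzν]
    have n12 : (1 : ZMod p) ≠ 2 := fun e => one_ne_zero (show (1 : ZMod p) = 0 by linear_combination -e)
    have n23 : (2 : ZMod p) ≠ 3 := fun e => one_ne_zero (show (1 : ZMod p) = 0 by linear_combination -e)
    have n13 : (1 : ZMod p) ≠ 3 := fun e => c.two_ne' (by linear_combination -e)
    obtain ⟨n, m, hn, hm, en, em⟩ := c.scalar n12 n23 n13 hv (hν _) hA hh hh'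
    have en' : n = -2 * ν (2 + i) := by
      refine c.scal_unique (v' := u (2 + i)) (c.τ_mem 2 _ hv) (hu _) hn ?_
      rw [← en, map_mul, mul_assoc, ← hzν, map_neg, map_ofNat]
    have em' : m = ν (3 + i) := by
      refine c.scal_unique (v' := u (3 + i)) (c.τ_mem 3 _ hv) (hu _) hm ?_
      rw [← em, ← hzν]
    simp only [hz] at hA
    rw [hA, en, em] at hh
    rw [← en', ← em']
    exact c.unscale hv hh
  have hconst : ∀ j, ν j = ν 0 := by
    set d := ν 1 - ν 0 with hd
    have rec' : ∀ n : ℕ, ν (n : ZMod p) = ν 0 + n * d ∧ ν ((n : ZMod p) + 1) = ν 0 + ((n : ZMod p) + 1) * d := by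
      intro n
      induction n with
      | zero => simp [hd]
      | succ n ih =>
        push_cast
        refine ⟨ih.2, ?_⟩
        have s := (step ((n : ZMod p) - 1)).1
        rw [show (1 : ZMod p) + ((n : ZMod p) - 1) = n by ring,
          show (2 : ZMod p) + ((n : ZMod p) - 1) = (n : ZMod p) + 1 by ring,
          show (3 : ZMod p) + ((n : ZMod p) - 1) = (n : ZMod p) + 1 + 1 by ring] at s
        linear_combination s - ih.1 + 2 * ih.2
    have lin : ∀ j, ν j = ν 0 + j * d := fun j => by simpa using (rec' j.val).1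
    intro j
    by_cases hd0 : d = 0
    · rw [lin j, hd0]; ring
    · exfalso
      apply hν (-ν 0 / d)
      rw [lin, div_mul_cancel₀ _ hd0, add_neg_cancel]
  have k := (step 0).2
  simp only [add_zero, hconst 1, hconst 2, hconst 3, Algebra.chi2] at k
  rw [show ν 0 + -2 * ν 0 = -ν 0 by ring, show -2 * ν 0 = -ν 0 + -ν 0 by ring,
    show (2 : ZMod p) = 1 + 1 by norm_num, show (3 : ZMod p) = 1 + 1 + 1 by norm_num] at k
  simp only [AddChar.map_add_eq_mul, AddChar.map_neg_eq_inv] at k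
  have hW := mul_inv_cancel₀ (Algebra.chi_ne_zero (χ := c.χ) (ν 0))
  have fac : (1 - c.χ (ν 0)) * (1 - c.χ 1) * c.χ 1 * (c.χ 1 - c.χ (ν 0)) = 0 := by
    linear_combination c.χ (ν 0) * k +
      ((1 - c.χ 1 * c.χ 1) * (c.χ (ν 0) * (c.χ (ν 0))⁻¹ + 1) -
        (1 - c.χ 1 * c.χ 1 * c.χ 1) * (1 - c.χ (ν 0))) * hW
  have hν1 : ν 0 = 1 := by
    simp only [mul_eq_zero, sub_eq_zero] at fac
    rcases fac with ((h0 | h0) | h0) | h0
    · exact absurd h0.symm (Algebra.chi_ne_one c.hχ (hν 0))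
    · exact absurd h0.symm c.hχ
    · exact absurd h0 (Algebra.chi_ne_zero _)
    · by_contra hne
      apply Algebra.chi_ne_one c.hχ (sub_ne_zero.2 hne)
      rw [sub_eq_add_neg, AddChar.map_add_eq_mul, AddChar.map_neg_eq_inv, ← h0,
        mul_inv_cancel₀ (Algebra.chi_ne_zero _)]
  have := hzν 0
  simp only [hz, c.τ_zero a h.1] at this
  rw [this, hν1, map_one, one_mul]
  exact hu 0

/-- only the trivial pair exists -/
theorem pair_trivial (h : c.Pair a b) : a = 1 := by
  by_contra ha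
  set w0 := 1 / (a - 1) with hw0
  have ha1 : a - 1 ≠ 0 := sub_ne_zero.2 ha
  have notscal : ∀ r : ZMod p, w0 ≠ ι r := by
    intro r hr
    apply ha
    have hr0 : ι r ≠ 0 := hr ▸ one_div_ne_zero ha1
    have e : a = ι (1 + r⁻¹) := by
      rw [map_add, map_one, map_inv₀, ← hr, hw0, one_div, inv_inv]; ring
    have h1 := h.1
    rw [e] at h1
    rw [e, c.scal_one _ h1, map_one]
  have hne : ∀ j : ℕ, w0 - (j : F) ≠ 0 := fun j h0 =>
    notscal (j : ZMod p) (by rw [map_natCast]; linear_combination h0)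
  have step : ∀ j : ℕ, c.Pair (1 + 1 / (w0 - (j : F))) (1 - 1 / (w0 - (j : F))) ∧
      (w0 - (j : F)) ^ N = w0 ^ N := by
    intro j
    induction j with
    | zero =>
      refine ⟨?_, by simp⟩
      rw [Nat.cast_zero, sub_zero, hw0, one_div_one_div, show (1 : F) + (a - 1) = a by ring,
        show (1 : F) - (a - 1) = b by linear_combination -h.2.2]
      exact h
    | succ j ih =>
      have n0 := hne j
      have n1 : w0 - (j : F) - 1 ≠ 0 := by
        have := hne (j + 1); push_cast at this; rwa [sub_add_eq_sub_sub] at this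
      have hb2 := c.norm_two_sub_one ih.1.symm
      have hb := ih.1.2.1
      rw [one_sub_div n0] at hb hb2
      set B := (w0 - (j : F) - 1) / (w0 - (j : F)) with hB
      have hB0 : B ≠ 0 := c.u_ne hb
      push_cast
      rw [sub_add_eq_sub_sub]
      refine ⟨⟨?_, ?_, ?_⟩, ?_⟩
      · rw [one_add_div n1, show w0 - (j : F) - 1 + 1 = w0 - (j : F) by ring,
          ← inv_div (w0 - (j : F) - 1), ← hB, inv_pow, hb, inv_one]
      · rw [show 1 - 1 / (w0 - (j : F) - 1) = (2 * B - 1) / B by rw [hB]; field_simp; ring,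
          div_pow, hb2, hb, div_one]
      · ring
      · rw [show w0 - (j : F) - 1 = B * (w0 - (j : F)) by rw [hB, div_mul_cancel₀ _ n0],
          mul_pow, hb, one_mul, ih.2]
  have := c.line w0 (-1) (fun k => by
    have := (step k.val).2
    rw [mul_neg, mul_one, ← sub_eq_add_neg]
    conv_lhs => rw [← ZMod.natCast_zmod_val k, map_natCast]
    exact this)
  simp at this

end Conf

end Cfsg.Agent.Lib.AppendixC.Config
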