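import Mathlib

/-!
Bender-Glauberman Appendix C: the norm-one elements of a field of order `p ^ q`.
-/

namespace Cfsg.Agent.Lib.AppendixC.NormOne

open Finset Polynomial

/-- the exponent of the norm to the prime field -/
def nrm (p q : ℕ) : ℕ := ∑ i ∈ range q, p ^ i

theorem nrm_mul (p q : ℕ) (hp : 2 ≤ p) : nrm p q * (p - 1) = p ^ q - 1 := by
  rw [nrm]
  have := geom_sum_mul_of_one_le (x := p) (by omega) q
  simpa using this

theorem nrm_eq_div (p q : ℕ) (hp : 2 ≤ p) : nrm p q = (p ^ q - 1) / (p - 1) := by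
  rw [← nrm_mul p q hp, Nat.mul_div_cancel _ (by omega)]

variable (p q : ℕ)

/-- the numerical hypotheses -/
structure Hyp (F : Type*) [Fintype F] : Prop where
  hp : p.Prime
  hq : q.Prime
  lt : q < p
  card : Fintype.card F = p ^ q
  coprime : Nat.Coprime (nrm p q) (p - 1)

variable {p q} {F : Type*} [Field F] [Fintype F] [Fact p.Prime] [_root_.Algebra (ZMod p) F]

local notation "ι" => algebraMap (ZMod p) F

namespace Hyp

variable (h : Hyp p q F)
include h

theorem q_coprime : Nat.Coprime q (p - 1) := by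
  rw [h.hq.coprime_iff_not_dvd]
  intro hd
  haveI : Fact q.Prime := ⟨h.hq⟩
  have hp1 : (p : ZMod q) = 1 := by
    have := (ZMod.natCast_eq_zero_iff (p - 1) q).2 hd
    rwa [Nat.cast_sub h.hp.one_le, Nat.cast_one, sub_eq_zero] at this
  have hN : (nrm p q : ZMod q) = 0 := by simp [nrm, hp1]
  rw [ZMod.natCast_eq_zero_iff] at hN
  exact h.hq.not_dvd_one (h.coprime.gcd_eq_one ▸ Nat.dvd_gcd hN hd)

theorem q_odd : Odd q := by
  refine h.hq.odd_of_ne_two ?_
  rintro rfl
  have h2 := Nat.coprime_two_left.1 h.q_coprime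
  have hp2 : p ≠ 2 := by have := h.lt; omega
  have := h.hp.odd_of_ne_two hp2
  rw [Nat.odd_iff] at this h2
  omega

theorem five : 5 ≤ p := by
  have h1 := h.lt
  have h2 := h.hq.two_le
  have h3 : q ≠ 2 := by
    intro e
    exact Nat.not_even_iff_odd.2 h.q_odd (e ▸ even_two)
  rcases lt_or_ge p 5 with h4 | h4
  · obtain rfl : p = 4 := by omega
    exact absurd h.hp (by norm_num)
  · exact h4

theorem scal_nrm (r : ZMod p) : ι r ^ nrm p q = ι r ^ q := by
  rw [nrm, ← prod_pow_eq_pow_sum]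
  simp [← map_pow, ZMod.pow_card_pow]

theorem neg_one : (-1 : F) ^ nrm p q = -1 := by
  have := h.scal_nrm (-1 : ZMod p)
  rw [map_neg, map_one] at this
  rw [this, h.q_odd.neg_one_pow]

theorem scal_one (r : ZMod p) (hr : ι r ^ nrm p q = 1) : r = 1 := by
  rw [h.scal_nrm, ← map_pow, map_eq_one_iff _ (algebraMap (ZMod p) F).injective] at hr
  have h0 : r ≠ 0 := by rintro rfl; simp [zero_pow h.hq.ne_zero] at hr
  have h1 := ZMod.pow_card_sub_one_eq_one h0
  have h2 := pow_gcd_eq_one.2 ⟨hr, h1⟩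
  rwa [h.q_coprime.gcd_eq_one, pow_one] at h2

omit h in
theorem fixed (x : F) (hx : x ^ p = x) : ∃ r : ZMod p, ι r = x := by
  haveI : CharP F p := charP_of_injective_algebraMap (algebraMap (ZMod p) F).injective p
  have := (Subfield.mem_bot_iff_pow_eq_self F p).2 hx
  rw [← ZMod.fieldRange_castHom_eq_bot p] at this
  obtain ⟨r, hr⟩ := this
  exact ⟨r, by rw [← hr]; exact congrFun (congrArg DFunLike.coe (RingHom.ext_zmod _ _)) r⟩

theorem pow_card (x : F) : x ^ p ^ q = x := by rw [← h.card, FiniteField.pow_card]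

theorem decomp (x : F) (hx : x ≠ 0) :
    ∃ r v, r ≠ 0 ∧ v ^ nrm p q = 1 ∧ x = ι r * v := by
  have hc0 : x ^ nrm p q ≠ 0 := pow_ne_zero _ hx
  obtain ⟨r0, hr0⟩ := fixed (p := p) (x ^ nrm p q) (by
    have h1 : x ^ (p ^ q - 1) = 1 := by rw [← h.card]; exact FiniteField.pow_card_sub_one_eq_one x hx
    rw [← nrm_mul p q h.hp.two_le, pow_mul] at h1
    rw [← pow_sub_one_mul h.hp.ne_zero, h1, one_mul])
  have r00 : r0 ≠ 0 := by rintro rfl; rw [map_zero] at hr0; exact hc0 hr0.symm
  have inj : Function.Injective (fun u : (ZMod p)ˣ => u ^ q) := by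
    intro u v huv
    have huv' : u ^ q = v ^ q := huv
    have e : (u / v) ^ q = 1 := by rw [div_pow, huv', div_self']
    have e' := h.scal_one (((u / v : (ZMod p)ˣ) : ZMod p)) (by
      rw [h.scal_nrm, ← map_pow, ← Units.val_pow_eq_pow_val, e, Units.val_one, map_one])
    exact div_eq_one.1 (Units.ext e')
  obtain ⟨r, hr⟩ := (Finite.injective_iff_surjective.1 inj) (Units.mk0 r0 r00)
  have hr' : (r : ZMod p) ^ q = r0 := by simpa using congrArg Units.val hr
  have hι : ι (r : ZMod p) ≠ 0 := (_root_.map_ne_zero _).2 r.ne_zero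
  refine ⟨r, x / ι r, r.ne_zero, ?_, (mul_div_cancel₀ _ hι).symm⟩
  rw [div_pow, h.scal_nrm, ← map_pow, hr', hr0, div_self hc0]

theorem line (c x : F) (hk : ∀ k : ZMod p, (c + ι k * x) ^ nrm p q = c ^ nrm p q) : x = 0 := by
  haveI : CharP F p := charP_of_injective_algebraMap (algebraMap (ZMod p) F).injective p
  set P : F[X] := (∏ i ∈ range q, (C (c ^ p ^ i) + C (x ^ p ^ i) * X)) - C (c ^ nrm p q) with hP
  have hlin : ∀ i : ℕ, (C (c ^ p ^ i) + C (x ^ p ^ i) * X).natDegree ≤ 1 := fun i => by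
    compute_degree
  have hdeg : P.natDegree ≤ q := by
    refine (natDegree_sub_le _ _).trans ?_
    rw [natDegree_C, max_le_iff]
    refine ⟨(natDegree_prod_le _ _).trans ?_, Nat.zero_le _⟩
    refine (Finset.sum_le_sum (g := fun _ => 1) fun i _ => ?_).trans (le_of_eq (by simp))
    exact hlin i
  have hz : P = 0 := by
    refine eq_zero_of_natDegree_lt_card_of_eval_eq_zero P (algebraMap (ZMod p) F).injective (fun k => ?_)
      (by rw [ZMod.card]; exact lt_of_le_of_lt hdeg h.lt)
    rw [hP, eval_sub, eval_prod, eval_C, sub_eq_zero, ← hk k, nrm, ← prod_pow_eq_pow_sum]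
    refine prod_congr rfl fun i _ => ?_
    rw [eval_add, eval_mul, eval_C, eval_C, eval_X, add_pow_char_pow, mul_pow, ← map_pow (algebraMap (ZMod p) F),
      ZMod.pow_card_pow]
    ring
  have hcoef := congrArg (fun Q : F[X] => Q.coeff q) hz
  have e : (∏ i ∈ range q, (C (c ^ p ^ i) + C (x ^ p ^ i) * X)).coeff q = x ^ nrm p q := by
    have := coeff_prod_of_natDegree_le (range q) (fun i => C (c ^ p ^ i) + C (x ^ p ^ i) * X) 1
      (fun i _ => hlin i)
    rw [card_range, mul_one] at this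
    rw [this, nrm, ← prod_pow_eq_pow_sum]
    simp only [coeff_add, coeff_C_mul, coeff_X_one, coeff_C, one_ne_zero, if_false, mul_one, zero_add]
  simp only [hP, coeff_sub, coeff_zero, e, coeff_C, h.hq.ne_zero, if_false, sub_zero] at hcoef
  exact (pow_eq_zero_iff'.1 hcoef).1

/-- the norm-one elements -/
noncomputable def normOne (_h : Hyp p q F) : Finset F := by
  classical exact univ.filter (fun x : F => x ^ nrm p q = 1)

theorem mem_normOne {x : F} : x ∈ h.normOne ↔ x ^ nrm p q = 1 := by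
  simp [normOne]

theorem nrm_pos : 0 < nrm p q := by
  rw [nrm]
  exact sum_pos (fun i _ => Nat.pow_pos h.hp.pos) ⟨0, by simp [h.hq.pos]⟩

theorem ne_zero_of_mem {x : F} (hx : x ∈ h.normOne) : x ≠ 0 := by
  rintro rfl
  rw [h.mem_normOne, zero_pow h.nrm_pos.ne'] at hx
  exact zero_ne_one hx

theorem sum_nonzero {M : Type*} [AddCommMonoid M] [DecidableEq F] (f : F → M) :
    ∑ b ∈ univ.erase (0 : F), f b =
      ∑ r ∈ univ.erase (0 : ZMod p), ∑ u ∈ h.normOne, f (ι r * u) := by
  rw [← sum_product']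
  symm
  refine sum_bij (fun z _ => ι z.1 * z.2) ?_ ?_ ?_ ?_
  · intro z hz
    simp only [mem_product, mem_erase, mem_univ, and_true] at hz ⊢
    exact mul_ne_zero ((_root_.map_ne_zero _).2 hz.1) (h.ne_zero_of_mem hz.2)
  · intro z hz w hw e
    simp only [mem_product, mem_erase, mem_univ, and_true, h.mem_normOne] at hz hw
    have hw0 : ι w.1 ≠ 0 := (_root_.map_ne_zero _).2 hw.1
    have hr : z.1 / w.1 = 1 := by
      apply h.scal_one
      have := congrArg (· ^ nrm p q) e
      simp only [mul_pow, hz.2, hw.2, mul_one] at this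
      rw [map_div₀, div_pow, this, div_self (pow_ne_zero _ hw0)]
    have h1 := (div_eq_one_iff_eq hw.1).1 hr
    rw [h1] at e
    exact Prod.ext h1 (mul_left_cancel₀ hw0 e)
  · intro b hb
    simp only [mem_erase, mem_univ, and_true] at hb
    obtain ⟨r, v, hr, hv, rfl⟩ := h.decomp b hb
    exact ⟨(r, v), by simp [hr, h.mem_normOne, hv], rfl⟩
  · intros; rfl

theorem card_normOne : h.normOne.card = nrm p q := by
  classical
  have := h.sum_nonzero (fun _ => (1 : ℕ))
  simp only [sum_const, smul_eq_mul, mul_one, card_erase_of_mem (mem_univ _), card_univ, ZMod.card,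
    h.card] at this
  rw [← nrm_mul p q h.hp.two_le, mul_comm] at this
  exact (Nat.eq_of_mul_eq_mul_left (by have := h.hp.two_le; omega) this).symm

end Hyp

end Cfsg.Agent.Lib.AppendixC.NormOne
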